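/-
The faithful representation of the presented Fi22 on 3510 points, evaluated on natural numbers.
-/
import Cfsg.Agent.Lib.CosetEnum.Fi22Class.Main
import Cfsg.Agent.S1696

set_option autoImplicit false
set_option maxRecDepth 100000

namespace CfsgLib.CosetEnum.Fi22Three

open CfsgLib.CosetEnum

/-- The presented group. -/
abbrev K : Type := presFi22.Grp

theorem hid : ∀ i < presFi22.k, presFi22.idx (presFi22.gen i) = i := Fi22Class.hid

theorem simpleK : IsSimpleGroup K := Cfsg.Agent.S1696.result.1

theorem cardK : Nat.card K = 64561751654400 := Cfsg.Agent.S1696.result.2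

theorem finiteK : Finite K := Cfsg.Agent.S1696.upper.1

/-- The representation. -/
noncomputable abbrev rho : K →* Equiv.Perm (Fin Fi3510.cert.T.n) := Fi3510.cert.hom Fi3510.hlt

theorem rho_injective : Function.Injective rho := by
  have := finiteK
  have hlow := Fi3510.cert.card_le_of_fixSub Fi3510.hlt
    (Cfsg.Agent.S1696.lower (Fi3510.cert.ker_le_fixSub Fi3510.hlt _))
  exact Fi3510.cert.hom_injective Fi3510.hlt hlow Cfsg.Agent.S1696.upper.2

/-- The image of a point. -/
noncomputable def act (g : K) (d : ℕ) : ℕ := if h : d < 3510 then (rho g ⟨d, h⟩ : ℕ) else d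

theorem act_of_lt (g : K) {d : ℕ} (h : d < 3510) : act g d = (rho g ⟨d, h⟩ : ℕ) := dif_pos h

theorem act_lt (g : K) {d : ℕ} (h : d < 3510) : act g d < 3510 := by
  rw [act_of_lt g h]; exact (rho g ⟨d, h⟩).2

theorem act_mul (g g' : K) (d : ℕ) : act (g * g') d = act g (act g' d) := by
  by_cases h : d < 3510
  · rw [act_of_lt _ h, act_of_lt g (act_lt g' h), map_mul, Equiv.Perm.mul_apply]
    exact congrArg (fun q => ((rho g q : Fin Fi3510.cert.T.n) : ℕ)) (Fin.ext (act_of_lt g' h).symm)
  · simp [act, h]

theorem act_one (d : ℕ) : act 1 d = d := by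
  by_cases h : d < 3510
  · rw [act_of_lt _ h, map_one, Equiv.Perm.one_apply]
  · simp [act, h]

theorem act_inv_act (g : K) (d : ℕ) : act g⁻¹ (act g d) = d := by rw [← act_mul, inv_mul_cancel, act_one]

theorem act_act_inv (g : K) (d : ℕ) : act g (act g⁻¹ d) = d := by rw [← act_mul, mul_inv_cancel, act_one]

theorem act_injective (g : K) : Function.Injective (act g) := fun a b h => by
  rw [← act_inv_act g a, h, act_inv_act]

/-- The element of a word. -/
noncomputable def el (w : List ℕ) : K := (w.map presFi22.σ).prod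

theorem el_append (v w : List ℕ) : el (v ++ w) = el v * el w := by simp [el]

theorem el_cons (x : ℕ) (w : List ℕ) : el (x :: w) = presFi22.σ x * el w := by simp [el]

theorem el_singleton (x : ℕ) : el [x] = presFi22.σ x := by simp [el]

theorem act_el (w : List ℕ) (hw : ∀ x ∈ w, x < 9) {d : ℕ} (hd : d < 3510) :
    act (el w) d = runT Fi3510.table 9 w.reverse d := by
  rw [act_of_lt _ hd]
  exact Fi3510.cert.hom_word_run' Fi3510.hlt hid w hw ⟨d, hd⟩

theorem ext_act {g g' : K} (h : ∀ d < 3510, act g d = act g' d) : g = g' :=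
  rho_injective (Equiv.ext fun d => Fin.ext (by have := h d d.2; rwa [act_of_lt _ d.2, act_of_lt _ d.2] at this))

/-- Six points with trivial pointwise stabiliser. -/
def base6 : List ℕ := [5, 0, 9, 13, 1, 8]

theorem base6_lt : ∀ b ∈ base6, b < 3510 := by decide

theorem fixSub_base : Fi3510.cert.fixSub Fi3510.hlt [5, 0, 9, 13, 1, 8] = ⊥ := by
  have := finiteK
  rw [Subgroup.eq_bot_iff_card]
  have h := Fi3510.cert.card_le_of_fixSub Fi3510.hlt (Cfsg.Agent.S1696.lower
    (K := Nat.card (Fi3510.cert.fixSub Fi3510.hlt [5, 0, 9, 13, 1, 8])) le_rfl)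
  rw [show Nat.card presFi22.Grp = 64561751654400 from cardK] at h
  have h1 : 0 < Nat.card (Fi3510.cert.fixSub Fi3510.hlt [5, 0, 9, 13, 1, 8]) := Nat.card_pos
  omega

/-- An element is determined by the images of the six points. -/
theorem ext6 {g g' : K} (h : ∀ b ∈ base6, act g b = act g' b) : g = g' := by
  have hm : g'⁻¹ * g ∈ Fi3510.cert.fixSub Fi3510.hlt [5, 0, 9, 13, 1, 8] := fun d hd => by
    refine Fin.ext ?_
    have e : act (g'⁻¹ * g) (d : ℕ) = d := by rw [act_mul, h _ hd, act_inv_act]
    rwa [act_of_lt _ d.2] at e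
  rw [fixSub_base, Subgroup.mem_bot, inv_mul_eq_one] at hm
  exact hm.symm

end CfsgLib.CosetEnum.Fi22Three
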