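/-
The transposition of a point of the presented Fi22.
-/
import Cfsg.Agent.Lib.CosetEnum.Fi22Three.Base

set_option autoImplicit false
set_option maxRecDepth 100000

namespace CfsgLib.CosetEnum.Fi22Three

open CfsgLib.CosetEnum

/-- The transposition `a`. -/
noncomputable abbrev ta : K := presFi22.σ 0

/-- An element carrying the first point to a point. -/
noncomputable def toPt (d : ℕ) : K :=
  if h : d < 3510 then (Fi3510.cert.exists_hom_zero Fi3510.hlt hid ⟨d, h⟩).choose else 1

theorem act_toPt {d : ℕ} (h : d < 3510) : act (toPt d) 0 = d := by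
  rw [toPt, dif_pos h, act_of_lt _ (by norm_num : 0 < 3510)]
  exact congrArg Fin.val (Fi3510.cert.exists_hom_zero Fi3510.hlt hid ⟨d, h⟩).choose_spec

theorem cent_ta {g : K} : Commute g ta ↔ act g 0 = 0 := by
  have := finiteK
  have := simpleK
  have hC := (Fi22Class.point_class rho_injective).1
  rw [List.map_cons, List.map_nil, List.prod_singleton] at hC
  rw [show Commute g ta ↔ g ∈ Subgroup.centralizer ({ta} : Set K) from
    ⟨fun h => Subgroup.mem_centralizer_singleton_iff.mpr h.eq, fun h => Subgroup.mem_centralizer_singleton_iff.mp h⟩,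
    hC, act_of_lt _ (by norm_num : 0 < 3510)]
  refine ⟨fun h => ?_, fun h => Fi3510.cert.mem_sub_of_fix Fi3510.hlt hid Fi3510.hhw (Fin.ext h)⟩
  exact congrArg Fin.val (Fi3510.cert.sub_fix Fi3510.hlt hid Fi3510.hhw h)

/-- The transposition of a point. -/
noncomputable def dt (d : ℕ) : K := toPt d * ta * (toPt d)⁻¹

theorem dt_eq {d : ℕ} (hd : d < 3510) (u : K) (hu : act u 0 = d) : dt d = u * ta * u⁻¹ := by
  have hc : Commute ((toPt d)⁻¹ * u) ta :=
    cent_ta.mpr (by
      have := act_inv_act (toPt d) 0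
      rw [act_mul, hu]
      rwa [act_toPt hd] at this)
  rw [dt]
  calc toPt d * ta * (toPt d)⁻¹ = toPt d * (ta * ((toPt d)⁻¹ * u)) * u⁻¹ := by group
    _ = u * ta * u⁻¹ := by rw [← hc.eq]; group

theorem conj_dt (g : K) {d : ℕ} (hd : d < 3510) : g * dt d * g⁻¹ = dt (act g d) := by
  rw [dt_eq (act_lt g hd) (g * toPt d) (by rw [act_mul, act_toPt hd]), dt]
  group

theorem commute_dt {g : K} {d : ℕ} (hd : d < 3510) : Commute g (dt d) ↔ act g d = d := by
  set u := toPt d
  have e : Commute g (dt d) ↔ Commute (u⁻¹ * g * u) ta := by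
    constructor
    · intro h
      have := h.map (MulAut.conj u⁻¹).toMonoidHom
      simpa [dt, u, MulAut.conj_apply, mul_assoc] using this
    · intro h
      have := h.map (MulAut.conj u).toMonoidHom
      simpa [dt, u, MulAut.conj_apply, mul_assoc] using this
  rw [e, cent_ta, act_mul, act_mul, act_toPt hd]
  constructor
  · intro h
    rw [← act_act_inv u (act g d), h, act_toPt hd]
  · intro h
    rw [h]
    conv_lhs => rw [← act_toPt hd]
    rw [act_inv_act]

theorem dt_mem (d : ℕ) : dt d ∈ conjugatesOf ta := isConj_iff.mpr ⟨toPt d, rfl⟩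

theorem exists_dt {x : K} (hx : x ∈ conjugatesOf ta) : ∃ d < 3510, dt d = x := by
  obtain ⟨u, rfl⟩ := isConj_iff.mp hx
  exact ⟨act u 0, act_lt u (by norm_num), dt_eq (act_lt u (by norm_num)) u rfl⟩

theorem ncard_conjugates : (conjugatesOf ta).ncard = 3510 := by
  have := finiteK
  have := simpleK
  simpa using (Fi22Class.point_class rho_injective).2.2

theorem dt_injective : Set.InjOn dt {d | d < 3510} := by
  have := finiteK
  refine Set.injOn_of_ncard_image_eq ?_ (Set.finite_lt_nat 3510)
  have e : dt '' {d | d < 3510} = conjugatesOf ta := by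
    ext x
    exact ⟨fun ⟨d, _, e⟩ => e ▸ dt_mem d, fun hx => exists_dt hx⟩
  rw [e, ncard_conjugates, show {d : ℕ | d < 3510} = Set.Iio 3510 from rfl, Set.ncard_eq_toFinset_card']
  simp

theorem act_dt {d e : ℕ} (hd : d < 3510) (he : e < 3510) (w : List ℕ) (hw : ∀ x ∈ w, x < 9)
    (hwd : runT Fi3510.table 9 w d = 0) :
    Commute (dt d) (dt e) ↔ Fi22Class.zf (runT Fi3510.table 9 w e) = runT Fi3510.table 9 w e := by
  have hrev : ∀ d < 3510, runT Fi3510.table 9 w d = act (el w)⁻¹ d := fun d hd => by
    rw [act_of_lt _ hd]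
    exact (Fi3510.cert.hom_inv_word Fi3510.hlt hid w hw ⟨d, hd⟩).symm
  rw [hrev d hd] at hwd
  have hu : act (el w) 0 = d := by rw [← hwd, act_act_inv]
  rw [commute_dt he, hrev e he, dt_eq hd _ hu, act_mul, act_mul]
  have hz : ∀ q < 3510, act ta q = Fi22Class.zf q := fun q hq => by
    show act (presFi22.σ 0) q = _
    rw [← el_singleton, act_el [0] (by decide) hq]
    exact Fi22Class.zf_spec q hq
  rw [hz _ (act_lt _ he)]
  constructor
  · intro h
    apply act_injective (el w)
    rw [h, act_act_inv]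
  · intro h
    rw [h, act_act_inv]

end CfsgLib.CosetEnum.Fi22Three
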