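/-
The commuting pattern of the selected points is the stored one.
-/
import Cfsg.Agent.Lib.CosetEnum.Fi22Three.Points
import Cfsg.Agent.Lib.CosetEnum.Fi22Three.RowsData

set_option autoImplicit false
set_option maxRecDepth 1000000

namespace CfsgLib.CosetEnum.Fi22Three

open CfsgLib.CosetEnum

/-- A binary digit. -/
noncomputable def bit (x e : ℕ) : Bool := Nat.beq (Nat.mod (Nat.shiftRight x e) (nat_lit 2)) (nat_lit 1)

theorem bit_eq (x e : ℕ) : bit x e = Nat.testBit x e := by
  show Nat.beq (x >>> e % 2) 1 = _
  rw [Nat.testBit_eq_decide_div_mod_eq, Nat.shiftRight_eq_div_pow]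
  rcases Nat.mod_two_eq_zero_or_one (x / 2 ^ e) with h | h <;> rw [h] <;> rfl

/-- The row of a point. -/
noncomputable def row (d : ℕ) : ℕ := entry rowT (nat_lit 1) (nat_lit 3510) d

/-- The check of one selected row against the one of its parent. -/
noncomputable def okRowB (d : ℕ) : Bool :=
  Nat.beq d (nat_lit 0) || !bit validM d ||
  force (Fi3510.table.up d) fun u => force (Nat.div u (nat_lit 16)) fun a => force (Nat.mod u (nat_lit 16)) fun s =>
    Nat.blt a d && Nat.blt s (nat_lit 9) && bit validM a && Nat.beq (Fi3510.table.act (nat_lit 9) a s) d &&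
    force (row d) fun rd => force (row a) fun ra =>
      allN (nat_lit 3510) fun e => force (Fi3510.table.act (nat_lit 9) e s) fun e' => (bit rd e == bit ra e')

/-- The check of the row of the first point. -/
noncomputable def okRowZero : Bool :=
  force (row (nat_lit 0)) fun r => allN (nat_lit 3510) fun e => (bit r e == Nat.beq (Fi22Class.zf e) e)

theorem rowZero_ok : okRowZero = true := by decide +kernel
theorem rowB0_ok : allN 600 okRowB = true := by decide +kernel
theorem rowB1_ok : allN 600 (fun i => force (Nat.add 600 i) okRowB) = true := by decide +kernel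
theorem rowB2_ok : allN 600 (fun i => force (Nat.add 1200 i) okRowB) = true := by decide +kernel
theorem rowB3_ok : allN 600 (fun i => force (Nat.add 1800 i) okRowB) = true := by decide +kernel
theorem rowB4_ok : allN 600 (fun i => force (Nat.add 2400 i) okRowB) = true := by decide +kernel
theorem rowB5_ok : allN 510 (fun i => force (Nat.add 3000 i) okRowB) = true := by decide +kernel

theorem chunk {f : ℕ → Bool} {lo n : ℕ} (h : allN n (fun i => force (Nat.add lo i) f) = true) {d : ℕ} (h1 : lo ≤ d)
    (h2 : d < lo + n) : f d = true := by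
  have := allN_spec h (d - lo) (by omega)
  rwa [force_eq, show Nat.add lo (d - lo) = d by show lo + (d - lo) = d; omega] at this

theorem rowB_ok {d : ℕ} (hd : d < 3510) : okRowB d = true := by
  rcases Nat.lt_or_ge d 600 with h | h
  · exact allN_spec rowB0_ok d h
  rcases Nat.lt_or_ge d 1200 with h' | h'
  · exact chunk rowB1_ok h (by omega)
  rcases Nat.lt_or_ge d 1800 with h'' | h''
  · exact chunk rowB2_ok h' (by omega)
  rcases Nat.lt_or_ge d 2400 with h3 | h3
  · exact chunk rowB3_ok h'' (by omega)
  rcases Nat.lt_or_ge d 3000 with h4 | h4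
  · exact chunk rowB4_ok h3 (by omega)
  · exact chunk rowB5_ok h4 (by omega)

theorem act_letter {s : ℕ} (hs : s < 9) {d : ℕ} (hd : d < 3510) : act (presFi22.σ s) d = Fi3510.table.act 9 d s := by
  rw [← el_singleton, act_el [s] (by simpa using hs) hd, runT_eq]
  rfl

theorem conj_commute (g : K) {a b : ℕ} (ha : a < 3510) (hb : b < 3510) :
    Commute (dt (act g a)) (dt (act g b)) ↔ Commute (dt a) (dt b) := by
  rw [← conj_dt g ha, ← conj_dt g hb, ← MulAut.conj_apply, ← MulAut.conj_apply]
  exact ⟨fun h => (MulAut.conj g).injective (by rw [map_mul, map_mul]; exact h), fun h => h.map (MulAut.conj g)⟩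

/-- The meaning of a selected row. -/
theorem row_spec : ∀ d < 3510, bit validM d = true → ∀ e < 3510, (bit (row d) e = true ↔ Commute (dt d) (dt e)) := by
  intro d
  induction d using Nat.strong_induction_on with
  | _ d ih =>
    intro hd hv e he
    rcases Nat.eq_zero_or_pos d with rfl | hd0
    · have h := allN_spec (by simpa [okRowZero, force_eq] using rowZero_ok) e he
      rw [act_dt (by norm_num) he [] (by simp) rfl]
      have h' : bit (row 0) e = Nat.beq (Fi22Class.zf e) e := eq_of_beq h
      rw [h']
      exact ⟨Nat.eq_of_beq_eq_true, fun q => by rw [show Fi22Class.zf e = e from q]; exact Nat.beq_refl e⟩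
    · have h := rowB_ok hd
      simp only [okRowB, hv, Bool.not_true, Bool.or_false, Bool.or_eq_true, force_eq, Bool.and_eq_true, blt_iff] at h
      rcases h with h | ⟨⟨⟨⟨ha, hs⟩, hva⟩, hact⟩, hall⟩
      · exact absurd (Nat.eq_of_beq_eq_true h) hd0.ne'
      set a := Nat.div (Fi3510.table.up d) 16
      set s := Nat.mod (Fi3510.table.up d) 16
      have ha' : a < 3510 := ha.trans hd
      have he' : Fi3510.table.act 9 e s < 3510 ∧ Fi3510.table.act 9 (Fi3510.table.act 9 e s) s = e :=
        (Fi3510.points e he).1 s hs
      have hb : bit (row d) e = bit (row a) (Fi3510.table.act 9 e s) := eq_of_beq (allN_spec hall e he)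
      rw [hb, ih a ha ha' hva _ he'.1]
      have e1 : act (presFi22.σ s) a = d := (act_letter hs ha').trans (Nat.eq_of_beq_eq_true hact)
      have e2 : act (presFi22.σ s) (Fi3510.table.act 9 e s) = e := (act_letter hs he'.1).trans he'.2
      rw [← conj_commute (presFi22.σ s) ha' he'.1, e1, e2]

end CfsgLib.CosetEnum.Fi22Three
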