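/-
Nodes of refutations of partial maps.
-/
import Cfsg.Agent.Lib.CosetEnum.Basic

set_option autoImplicit false

namespace CfsgLib.CosetEnum.Fi22Three

/-- A node: split on the image of a point, leave the orbit of a level of the chain, or fail to commute. -/
inductive RNode where
  | split (f : ℕ) (kids : List (ℕ × ℕ))
  | sift (j : ℕ) (v : List ℕ)
  | mism (d : ℕ) (v : List ℕ)

end CfsgLib.CosetEnum.Fi22Three
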