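/-
A Sylow 3-subgroup of the presented Fi22 as the products along a polycyclic sequence.
-/
import Cfsg.Agent.Lib.CosetEnum.Fi22Three.Base
import Cfsg.Agent.Lib.CosetEnum.Fi22Three.Data

set_option autoImplicit false
set_option maxRecDepth 1000000

namespace CfsgLib.CosetEnum.Fi22Three

open CfsgLib.CosetEnum

/-- The members of the sequence. -/
noncomputable def X (j : ℕ) : K := el (seqW.getD j [])

/-- The stored permutation of a member. -/
noncomputable def tperm (j d : ℕ) : ℕ := entry (seqT.getD j (.leaf (nat_lit 0))) (nat_lit 64) (nat_lit 12) d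

/-- The check of a stored permutation at a point. -/
noncomputable def okPerm (j d : ℕ) : Bool := Nat.beq (runT Fi3510.table 9 (seqW.getD j []).reverse d) (tperm j d)

theorem seqW_lt : ∀ j < 9, ∀ x ∈ seqW.getD j [], x < 9 := by decide +kernel

theorem perm0_ok : allN 3510 (fun d => okPerm 0 d) = true := by decide +kernel
theorem perm1_ok : allN 3510 (fun d => okPerm 1 d) = true := by decide +kernel
theorem perm2_ok : allN 3510 (fun d => okPerm 2 d) = true := by decide +kernel
theorem perm3_ok : allN 3510 (fun d => okPerm 3 d) = true := by decide +kernel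
theorem perm4_ok : allN 3510 (fun d => okPerm 4 d) = true := by decide +kernel
theorem perm5_ok : allN 3510 (fun d => okPerm 5 d) = true := by decide +kernel
theorem perm6_ok : allN 3510 (fun d => okPerm 6 d) = true := by decide +kernel
theorem perm7_ok : allN 3510 (fun d => okPerm 7 d) = true := by decide +kernel
theorem perm8_ok : allN 3510 (fun d => okPerm 8 d) = true := by decide +kernel

theorem act_X {j : ℕ} (hj : j < 9) {d : ℕ} (hd : d < 3510) : act (X j) d = tperm j d := by
  have h : allN 3510 (fun d => okPerm j d) = true := by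
    interval_cases j
    exacts [perm0_ok, perm1_ok, perm2_ok, perm3_ok, perm4_ok, perm5_ok, perm6_ok, perm7_ok, perm8_ok]
  rw [X, act_el _ (seqW_lt j hj) hd]
  exact Nat.eq_of_beq_eq_true (allN_spec h d hd)

/-- The digit of an index. -/
noncomputable def digit (i j : ℕ) : ℕ := Nat.mod (Nat.div i (Nat.pow (nat_lit 3) j)) (nat_lit 3)

/-- The product of an index over the first members, the later members to the left. -/
noncomputable def Pel : ℕ → ℕ → K
  | 0, _ => 1
  | j + 1, i => X j ^ digit i j * Pel j i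

/-- The image of a point under a product of an index. -/
noncomputable def pev (j i d : ℕ) : ℕ :=
  Nat.rec d (fun j' v => Nat.rec v (fun _ a => force a (tperm j')) (digit i j')) j

theorem act_pow_X {j : ℕ} (hj : j < 9) : ∀ e : ℕ, ∀ {d : ℕ}, d < 3510 →
    act (X j ^ e) d = Nat.rec d (fun _ a => force a (tperm j)) e := by
  intro e
  induction e with
  | zero => intro d _; rw [pow_zero, act_one]; rfl
  | succ e ih =>
    intro d hd
    show _ = force (Nat.rec d (fun _ a => force a (tperm j)) e) (tperm j)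
    rw [force_eq, ← ih hd, ← act_X hj (act_lt _ hd), ← act_mul, pow_succ']

theorem act_Pel : ∀ j ≤ 9, ∀ (i : ℕ) {d : ℕ}, d < 3510 → act (Pel j i) d = pev j i d := by
  intro j
  induction j with
  | zero => intro _ i d _; exact act_one d
  | succ j ih =>
    intro hj i d hd
    show act (X j ^ digit i j * Pel j i) d = _
    rw [act_mul, act_pow_X (Nat.lt_of_succ_le hj) _ (act_lt _ hd), ih (Nat.le_of_succ_le hj) i hd]
    rfl

theorem Pel_zero : ∀ j, Pel j 0 = 1 := by
  intro j
  induction j with
  | zero => rfl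
  | succ j ih =>
    show X j ^ digit 0 j * Pel j 0 = 1
    rw [ih, mul_one, show digit 0 j = 0 from (by simp : 0 / 3 ^ j % 3 = 0), pow_zero]

theorem Pel_congr {i i' : ℕ} : ∀ j, (∀ m < j, digit i m = digit i' m) → Pel j i = Pel j i' := by
  intro j
  induction j with
  | zero => intro _; rfl
  | succ j ih =>
    intro h
    show X j ^ digit i j * Pel j i = X j ^ digit i' j * Pel j i'
    rw [h j (Nat.lt_succ_self j), ih fun m hm => h m (Nat.lt_succ_of_lt hm)]

theorem Pel_shift {j a e : ℕ} (ha : a < 3 ^ j) (he : e < 3) : Pel (j + 1) (e * 3 ^ j + a) = X j ^ e * Pel j a := by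
  show X j ^ digit (e * 3 ^ j + a) j * Pel j (e * 3 ^ j + a) = _
  have h1 : digit (e * 3 ^ j + a) j = e := by
    show (e * 3 ^ j + a) / 3 ^ j % 3 = e
    rw [Nat.add_comm, Nat.add_mul_div_right _ _ (by positivity), Nat.div_eq_of_lt ha, Nat.zero_add, Nat.mod_eq_of_lt he]
  rw [h1, Pel_congr (i := e * 3 ^ j + a) (i' := a) j fun m hm => ?_]
  show (e * 3 ^ j + a) / 3 ^ m % 3 = a / 3 ^ m % 3
  obtain ⟨c, rfl⟩ : ∃ c, j = m + 1 + c := ⟨j - m - 1, by omega⟩
  rw [Nat.add_comm, show e * 3 ^ (m + 1 + c) = e * 3 ^ c * 3 * 3 ^ m by ring, Nat.add_mul_div_right _ _ (by positivity),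
    Nat.add_mul_mod_self_right]

/-- The checks of the sequence at the step `j`. -/
noncomputable def okStep (j : ℕ) : Bool :=
  allN j (fun m => force ((pcData.getD j []).getD m 0) fun a => Nat.blt a (Nat.pow 3 j) &&
    base6.all fun b => Nat.beq (tperm m (tperm j b)) (tperm j (pev j a b))) &&
  (force ((pcData.getD j []).getD j 0) fun a => Nat.blt a (Nat.pow 3 j) &&
    base6.all fun b => Nat.beq (tperm j (tperm j (tperm j b))) (pev j a b)) &&
  allN (Nat.pow 3 j) (fun i => base6.any fun b => !Nat.beq (pev j i b) (tperm j b))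

theorem steps_ok : allN 9 okStep = true := by decide +kernel

theorem step_spec {j : ℕ} (hj : j < 9) :
    (∀ m < j, ∃ a < 3 ^ j, X m * X j = X j * Pel j a) ∧ (∃ a < 3 ^ j, X j ^ 3 = Pel j a) ∧
      ∀ i < 3 ^ j, Pel j i ≠ X j := by
  have h := allN_spec steps_ok j hj
  simp only [okStep, Bool.and_eq_true] at h
  obtain ⟨⟨h1, h2⟩, h3⟩ := h
  refine ⟨fun m hm => ?_, ?_, fun i hi e => ?_⟩
  · have := allN_spec h1 m hm
    simp only [force_eq, Bool.and_eq_true, blt_iff, List.all_eq_true] at this
    refine ⟨_, this.1, ext6 fun b hb => ?_⟩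
    have hb' := base6_lt b hb
    rw [act_mul, act_mul, act_X hj hb', act_Pel j hj.le _ hb', act_X (hm.trans hj) (act_X hj hb' ▸ act_lt _ hb'),
      act_X hj (act_Pel j hj.le _ hb' ▸ act_lt _ hb')]
    exact Nat.eq_of_beq_eq_true (this.2 b hb)
  · simp only [force_eq, Bool.and_eq_true, blt_iff, List.all_eq_true] at h2
    refine ⟨_, h2.1, ext6 fun b hb => ?_⟩
    rw [act_pow_X hj 3 (base6_lt b hb), act_Pel j hj.le _ (base6_lt b hb)]
    show force (force (force b (tperm j)) (tperm j)) (tperm j) = _
    rw [force_eq, force_eq, force_eq]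
    exact Nat.eq_of_beq_eq_true (h2.2 b hb)
  · obtain ⟨b, hb, hne⟩ := List.any_eq_true.mp (allN_spec h3 i hi)
    rw [← act_Pel j hj.le _ (base6_lt b hb), e, act_X hj (base6_lt b hb)] at hne
    simp at hne

/-- The group of the first members. -/
noncomputable def H (j : ℕ) : Subgroup K := Subgroup.closure (X '' Set.Iio j)

theorem H_mono {i j : ℕ} (h : i ≤ j) : H i ≤ H j :=
  Subgroup.closure_mono (Set.image_mono (Set.Iio_subset_Iio h))

theorem Pel_mem : ∀ j i, Pel j i ∈ H j := by
  intro j
  induction j with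
  | zero => intro i; exact one_mem _
  | succ j ih =>
    intro i
    exact mul_mem (pow_mem (Subgroup.subset_closure (Set.mem_image_of_mem X (show j ∈ Set.Iio (j + 1) from Nat.lt_succ_self j))) _)
      (H_mono (Nat.le_succ j) (ih i))

theorem H_spec : ∀ j ≤ 9, (∀ g ∈ H j, ∃ i < 3 ^ j, Pel j i = g) ∧ Nat.card (H j) = 3 ^ j := by
  have := finiteK
  intro j
  induction j with
  | zero =>
    intro _
    have e : H 0 = ⊥ := by simp [H]
    rw [e]
    exact ⟨fun g hg => ⟨0, by norm_num, (Subgroup.mem_bot.mp hg).symm⟩, by simp⟩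
  | succ j ih =>
    intro hj
    have hj9 : j < 9 := Nat.lt_of_succ_le hj
    obtain ⟨ihm, ihc⟩ := ih hj9.le
    obtain ⟨hconj, ⟨a3, ha3, hcube⟩, hout⟩ := step_spec hj9
    set x := X j with hx
    have hx3 : x ^ 3 ∈ H j := hcube ▸ Pel_mem j a3
    have hnot : x ∉ H j := fun q => by
      obtain ⟨i, hi, e⟩ := ihm x q
      exact hout i hi e
    have hle : H j ≤ (H j).comap (MulAut.conj x⁻¹).toMonoidHom := by
      refine (Subgroup.closure_le _).mpr ?_
      rintro _ ⟨m, hm, rfl⟩
      obtain ⟨a, -, ha⟩ := hconj m hm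
      show x⁻¹ * X m * x⁻¹⁻¹ ∈ H j
      rw [inv_inv, mul_assoc, ha, inv_mul_cancel_left]
      exact Pel_mem j a
    have hstep : ∀ h ∈ H j, x⁻¹ * h * x ∈ H j := fun h hh => by
      have := hle hh
      rwa [Subgroup.mem_comap, MulEquiv.coe_toMonoidHom, MulAut.conj_apply, inv_inv] at this
    have hswap : ∀ e : ℕ, ∀ h ∈ H j, ∃ h' ∈ H j, h * x ^ e = x ^ e * h' := by
      intro e
      induction e with
      | zero => exact fun h hh => ⟨h, hh, by simp⟩
      | succ e ihe =>
        intro h hh
        obtain ⟨h', hh', e'⟩ := ihe h hh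
        refine ⟨x⁻¹ * h' * x, hstep h' hh', ?_⟩
        rw [pow_succ, ← mul_assoc, e']; group
    have hmem : ∀ g ∈ H (j + 1), ∃ e < 3, ∃ h ∈ H j, g = x ^ e * h := by
      intro g hg
      have hg' : g ∈ Submonoid.closure (X '' Set.Iio (j + 1)) := by
        rw [← Subgroup.closure_toSubmonoid_of_finite]
        exact hg
      induction hg' using Submonoid.closure_induction_left with
      | one => exact ⟨0, by norm_num, 1, one_mem _, by simp⟩
      | mul_left s hs g _ ihg =>
        obtain ⟨e, he, h, hh, rfl⟩ := ihg ((Subgroup.mul_mem_cancel_left _ (Subgroup.subset_closure hs)).mp hg)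
        obtain ⟨m, hm, rfl⟩ := hs
        rcases Nat.lt_succ_iff_lt_or_eq.mp hm with hm' | rfl
        · obtain ⟨h', hh', e'⟩ := hswap e _ (Subgroup.subset_closure (Set.mem_image_of_mem X hm'))
          exact ⟨e, he, h' * h, mul_mem hh' hh, by rw [← mul_assoc, e', mul_assoc]⟩
        · rcases Nat.lt_or_ge (e + 1) 3 with he' | he'
          · exact ⟨e + 1, he', h, hh, by rw [← mul_assoc, ← pow_succ']⟩
          · have e2 : e = 2 := by omega
            subst e2
            exact ⟨0, by norm_num, x ^ 3 * h, mul_mem hx3 hh, by rw [pow_zero, one_mul, ← mul_assoc, ← pow_succ']⟩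
    refine ⟨fun g hg => ?_, ?_⟩
    · obtain ⟨e, he, h, hh, rfl⟩ := hmem g hg
      obtain ⟨a, ha, rfl⟩ := ihm h hh
      refine ⟨e * 3 ^ j + a, ?_, Pel_shift ha he⟩
      rw [pow_succ]; nlinarith
    · have hbij : Function.Bijective (fun p : Fin 3 × H j =>
          (⟨x ^ (p.1 : ℕ) * p.2, mul_mem (pow_mem (Subgroup.subset_closure
            (Set.mem_image_of_mem X (show j ∈ Set.Iio (j + 1) from Nat.lt_succ_self j))) _) (H_mono (Nat.le_succ j) p.2.2)⟩ : H (j + 1))) := by
        constructor
        · rintro ⟨a, h⟩ ⟨b, h'⟩ e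
          have e' : x ^ (a : ℕ) * (h : K) = x ^ (b : ℕ) * (h' : K) := congrArg Subtype.val e
          have key : ∀ (a b : ℕ) (h h' : H j), a < b → b < 3 → x ^ a * (h : K) ≠ x ^ b * (h' : K) := by
            intro a b h h' hab hb q
            have q' : x ^ (b - a) ∈ H j := by
              have : x ^ (b - a) = (h : K) * (h' : K)⁻¹ := by
                rw [eq_mul_inv_iff_mul_eq]
                refine mul_left_cancel (a := x ^ a) ?_
                rw [← mul_assoc, ← pow_add, Nat.add_sub_cancel' hab.le, q]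
              rw [this]; exact mul_mem h.2 (inv_mem h'.2)
            rcases (by omega : b - a = 1 ∨ b - a = 2) with r | r <;> rw [r] at q'
            · exact hnot (by simpa using q')
            · apply hnot
              rw [show x = x ^ 3 * (x ^ 2)⁻¹ by rw [pow_succ' x 2, mul_inv_cancel_right]]
              exact mul_mem hx3 (inv_mem q')
          rcases lt_trichotomy (a : ℕ) (b : ℕ) with r | r | r
          · exact absurd e' (key _ _ _ _ r b.2)
          · have ab : a = b := Fin.ext r
            subst ab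
            exact Prod.ext rfl (Subtype.ext (mul_left_cancel e'))
          · exact absurd e'.symm (key _ _ _ _ r a.2)
        · rintro ⟨g, hg⟩
          obtain ⟨e, he, h, hh, rfl⟩ := hmem g hg
          exact ⟨(⟨e, he⟩, ⟨h, hh⟩), rfl⟩
      rw [← Nat.card_congr (Equiv.ofBijective _ hbij), Nat.card_prod, Nat.card_fin, ihc, pow_succ, mul_comm]

/-- The Sylow subgroup. -/
noncomputable def S3 : Sylow 3 K :=
  haveI := finiteK
  (IsPGroup.of_card (H_spec 9 le_rfl).2).toSylow (by
    intro h
    have e := (H 9).index_mul_card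
    rw [(H_spec 9 le_rfl).2, cardK] at e
    omega)

theorem mem_S3 {g : K} : g ∈ (S3 : Subgroup K) ↔ ∃ i < 19683, Pel 9 i = g :=
  ⟨fun h => (H_spec 9 le_rfl).1 g h, fun ⟨i, _, e⟩ => e ▸ Pel_mem 9 i⟩

end CfsgLib.CosetEnum.Fi22Three
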