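/-
The data of the normalizer of a subgroup of order three and their readers.
-/
import Cfsg.Agent.Lib.CosetEnum.Fi22Three.Sylow
import Cfsg.Agent.Lib.CosetEnum.Fi22Three.Nodes

set_option autoImplicit false
set_option maxRecDepth 100000

namespace CfsgLib.CosetEnum.Fi22Three

open CfsgLib.CosetEnum

/-- The data of a case. -/
structure NData where
  /-- the element -/
  root : ℕ
  /-- the fixed points -/
  fixM : ℕ
  /-- the generators -/
  gensW : List (List ℕ)
  /-- their permutations -/
  gensT : List Tree
  /-- their actions on the element -/
  gensP : List ℕ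
  /-- the cosets -/
  cosets : List (List ℕ)
  /-- the indices of the normal subgroup -/
  qIdx : Tree
  /-- the number of indices -/
  qN : ℕ
  /-- generators of the normal subgroup -/
  qGen : List ℕ
  /-- their products with the members -/
  qMul : Tree
  /-- their conjugates -/
  qConj : List (List ℕ)
  /-- the products of the generators with the cosets -/
  ctab : Tree
  /-- the levels -/
  levels : List (ℕ × List ℕ × List (ℕ × ℕ))
  /-- the refutations -/
  nodes : List RNode

namespace NData

variable (C : NData)

/-- The element. -/
noncomputable def x : K := Pel 9 C.root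

/-- A generator. -/
noncomputable def gen (s : ℕ) : K := el (C.gensW.getD s [])

/-- The permutation of a generator. -/
noncomputable def gperm (s d : ℕ) : ℕ := entry (C.gensT.getD s (.leaf (nat_lit 0))) (nat_lit 64) (nat_lit 12) d

/-- A representative of a coset. -/
noncomputable def cos (i : ℕ) : K := ((C.cosets.getD i []).map C.gen).prod

/-- Its evaluation. -/
noncomputable def cev (i d : ℕ) : ℕ :=
  List.rec (motive := fun _ => ℕ) d (fun s _ v => force v (C.gperm s)) (C.cosets.getD i [])

/-- The index of a member of the normal subgroup. -/
noncomputable def qi (t : ℕ) : ℕ := entry C.qIdx (nat_lit 64) (nat_lit 16) t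

/-- A member of the normal subgroup. -/
noncomputable def qel (t : ℕ) : K := Pel 9 (C.qi t)

/-- Its evaluation. -/
noncomputable def qev (t d : ℕ) : ℕ := force (C.qi t) fun i => pev (nat_lit 9) i d

/-- The check of the permutation of the generators. -/
noncomputable def okGens : Bool :=
  allN C.gensW.length fun s => (C.gensW.getD s []).all (fun l => Nat.blt l (nat_lit 9)) &&
    force (nat_lit 3510) fun n => allN n fun d =>
      Nat.beq (runT Fi3510.table (nat_lit 9) (C.gensW.getD s []).reverse d) (C.gperm s d)

theorem act_gen (h : C.okGens = true) {s : ℕ} (hs : s < C.gensW.length) {d : ℕ} (hd : d < 3510) :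
    act (C.gen s) d = C.gperm s d := by
  have := allN_spec h s hs
  simp only [Bool.and_eq_true, List.all_eq_true, blt_iff, force_eq] at this
  rw [gen, act_el _ this.1 hd]
  exact Nat.eq_of_beq_eq_true (allN_spec this.2 d hd)

/-- The check of the letters of the cosets. -/
noncomputable def okCosets : Bool :=
  C.cosets.all fun w => w.all fun s => Nat.blt s C.gensW.length

theorem act_cos (hg : C.okGens = true) (hc : C.okCosets = true) (i : ℕ) {d : ℕ} (hd : d < 3510) :
    act (C.cos i) d = C.cev i d := by
  have hs : ∀ s ∈ C.cosets.getD i [], s < C.gensW.length := by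
    rcases Nat.lt_or_ge i C.cosets.length with hi | hi
    · rw [List.getD_eq_getElem _ _ hi]
      simp only [okCosets, List.all_eq_true, blt_iff] at hc
      exact hc _ (List.getElem_mem hi)
    · rw [List.getD_eq_default _ _ hi]; simp
  unfold cos cev
  generalize C.cosets.getD i [] = w at hs ⊢
  induction w with
  | nil => exact act_one d
  | cons s w ih =>
    have ih' := ih fun t ht => hs t (List.mem_cons_of_mem _ ht)
    show act ((List.map C.gen (s :: w)).prod) d = force (List.rec d (fun s _ v => force v (C.gperm s)) w) (C.gperm s)
    rw [force_eq, ← ih', List.map_cons, List.prod_cons, act_mul,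
      C.act_gen hg (hs s List.mem_cons_self) (act_lt _ hd)]

theorem act_qel (t : ℕ) {d : ℕ} (hd : d < 3510) : act (C.qel t) d = C.qev t d := by
  rw [qev, force_eq, qel]
  exact act_Pel 9 le_rfl _ hd

theorem act_x {d : ℕ} (hd : d < 3510) : act C.x d = pev 9 C.root d := act_Pel 9 le_rfl _ hd

end NData

end CfsgLib.CosetEnum.Fi22Three
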