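/-
The orbits of the chain of stabilisers of the six points are exactly the listed ones.
-/
import Cfsg.Agent.Lib.CosetEnum.Fi22Three.Base
import Cfsg.Agent.Lib.CosetEnum.Fi22Chain.Levels

set_option autoImplicit false
set_option maxRecDepth 100000

namespace CfsgLib.CosetEnum.Fi22Three

open CfsgLib.CosetEnum

/-- The levels of the chain. -/
noncomputable def chainLevels : List Level :=
  [Fi22Chain.lev0, Fi22Chain.lev1, Fi22Chain.lev2, Fi22Chain.lev3, Fi22Chain.lev4, Fi22Chain.lev5]

/-- A point lies in the listed orbit of a level. -/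
noncomputable def inOrb (j p : ℕ) : Bool :=
  force (entry (chainLevels.getD j Fi22Chain.lev0).pos (nat_lit 64) (nat_lit 20) p) fun i =>
    Nat.blt i (chainLevels.getD j Fi22Chain.lev0).m && Nat.beq ((chainLevels.getD j Fi22Chain.lev0).point i) p

/-- The stabiliser of some points. -/
noncomputable abbrev fx (prev : List ℕ) : Subgroup K := Fi3510.cert.fixSub Fi3510.hlt prev

theorem mem_fx {prev : List ℕ} (hp : ∀ b ∈ prev, b < 3510) {g : K} : g ∈ fx prev ↔ ∀ b ∈ prev, act g b = b := by
  constructor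
  · intro h b hb
    rw [act_of_lt g (hp b hb)]
    exact congrArg Fin.val (h ⟨b, hp b hb⟩ hb)
  · intro h d hd
    refine Fin.ext ?_
    have := h d hd
    rwa [act_of_lt g d.2] at this

/-- The orbit of a stabiliser. -/
def orbSet (prev : List ℕ) (b : ℕ) : Set ℕ := (fun g => act g b) '' (fx prev : Set K)

theorem card_fx (prev : List ℕ) (hp : ∀ c ∈ prev, c < 3510) (b : ℕ) (hb : b < 3510) :
    Nat.card (fx prev) = (orbSet prev b).ncard * Nat.card (fx (prev ++ [b])) := by
  have := finiteK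
  let i : MulAction K ℕ := { smul := act, one_smul := act_one, mul_smul := act_mul }
  have e1 : (MulAction.orbit (fx prev) b) = orbSet prev b := by
    ext p
    exact ⟨fun ⟨g, e⟩ => ⟨g.1, g.2, e⟩, fun ⟨g, hg, e⟩ => ⟨⟨g, hg⟩, e⟩⟩
  have e2 : fx (prev ++ [b]) = (MulAction.stabilizer (fx prev) b).map (fx prev).subtype := by
    ext g
    have hp' : ∀ c ∈ prev ++ [b], c < 3510 := fun c hc => (List.mem_append.mp hc).elim (hp c) fun h =>
      List.mem_singleton.mp h ▸ hb
    rw [mem_fx hp']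
    constructor
    · intro h
      exact ⟨⟨g, (mem_fx hp).mpr fun c hc => h c (List.mem_append_left _ hc)⟩,
        h b (List.mem_append_right _ (List.mem_singleton_self b)), rfl⟩
    · rintro ⟨⟨g, hg⟩, hgb, rfl⟩ c hc
      rcases List.mem_append.mp hc with hc | hc
      · exact (mem_fx hp).mp hg c hc
      · exact List.mem_singleton.mp hc ▸ hgb
  rw [← (MulAction.stabilizer (fx prev) b).card_mul_index, MulAction.index_stabilizer, e1, e2,
    Subgroup.card_map_of_injective (fx prev).subtype_injective, mul_comm]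

theorem points_sub (prev : List ℕ) (hp : ∀ c ∈ prev, c < 3510) (L : Level)
    (hok : L.ok Fi3510.table 9 prev = true) (hb : L.b < 3510) :
    ((Finset.range L.m).image L.point : Set ℕ) ⊆ orbSet prev L.b ∧ ((Finset.range L.m).image L.point).card = L.m := by
  classical
  simp only [Level.ok, Bool.and_eq_true, List.all_eq_true] at hok
  obtain ⟨⟨hfix, hlet⟩, hpts⟩ := hok
  have hlet' : ∀ w ∈ L.gens, ∀ x ∈ w, x < 9 := fun w hw x hx => by
    have := hlet w hw x hx
    rwa [blt_iff] at this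
  have hpos : ∀ i < L.m, L.okPos Fi3510.table 9 i = true := fun i hi => by
    have := allN_spec (f := fun i' => force i' (L.okPos Fi3510.table 9)) hpts i hi
    rwa [force_eq] at this
  have hact : ∀ w ∈ L.gens, ∀ d < 3510, act (el w)⁻¹ d = runT Fi3510.table 9 w d := fun w hw d hd => by
    rw [act_of_lt _ hd]
    exact Fi3510.cert.hom_inv_word Fi3510.hlt hid w (hlet' w hw) ⟨d, hd⟩
  have hreach : ∀ i, i < L.m → L.point i ∈ orbSet prev L.b ∧ L.point i < 3510 := by
    intro i
    induction i using Nat.strong_induction_on with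
    | _ i ih =>
      intro hi
      have h := hpos i hi
      simp only [Level.okPos, force_eq, Bool.and_eq_true] at h
      have hlt : L.point i < 3510 := blt_iff.mp h.1.1
      cases hb0 : Nat.beq i 0 with
      | true =>
        rw [hb0] at h
        have e : L.point i = L.b := Nat.eq_of_beq_eq_true h.2
        exact ⟨⟨1, one_mem _, (act_one _).trans e.symm⟩, hlt⟩
      | false =>
        rw [hb0] at h
        simp only [Bool.and_eq_true, blt_iff] at h
        obtain ⟨⟨hj, hg⟩, he⟩ := h.2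
        obtain ⟨⟨u, hu, hq⟩, hqlt⟩ := ih _ hj (hj.trans hi)
        obtain ⟨w, hw, hwe⟩ : ∃ w, w ∈ L.gens ∧ L.gens.getD (fld (entry L.pts 32 48 i) 40 8) [] = w :=
          ⟨_, List.getD_eq_getElem _ _ hg ▸ List.getElem_mem hg, rfl⟩
        rw [hwe] at he
        refine ⟨⟨(el w)⁻¹ * u, mul_mem ((mem_fx hp).mpr fun c hc => ?_) hu, ?_⟩, hlt⟩
        · rw [hact w hw c (hp c hc)]
          exact Nat.eq_of_beq_eq_true (hfix w hw c hc)
        · show act ((el w)⁻¹ * u) L.b = _
          rw [act_mul, show act u L.b = _ from hq, hact w hw _ hqlt]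
          exact Nat.eq_of_beq_eq_true he
  refine ⟨fun p hp' => ?_, ?_⟩
  · obtain ⟨i, hi, rfl⟩ := Finset.mem_image.mp (Finset.mem_coe.mp hp')
    exact (hreach i (Finset.mem_range.mp hi)).1
  · rw [Finset.card_image_of_injOn, Finset.card_range]
    intro i hi j hj e
    have h1 := hpos i (Finset.mem_range.mp hi)
    have h2 := hpos j (Finset.mem_range.mp hj)
    simp only [Level.okPos, force_eq, Bool.and_eq_true] at h1 h2
    have e1 : entry L.pos 64 20 (L.point i) = i := Nat.eq_of_beq_eq_true h1.1.2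
    have e2 : entry L.pos 64 20 (L.point j) = j := Nat.eq_of_beq_eq_true h2.1.2
    rw [e, e2] at e1
    exact e1.symm

theorem chain_ok : ∀ j < 6, (chainLevels.getD j Fi22Chain.lev0).ok Fi3510.table 9 (base6.take j) = true ∧
    (chainLevels.getD j Fi22Chain.lev0).b = base6.getD j 0 := by
  intro j hj
  interval_cases j
  exacts [⟨Fi22Chain.lev0_ok, rfl⟩, ⟨Fi22Chain.lev1_ok, rfl⟩, ⟨Fi22Chain.lev2_ok, rfl⟩, ⟨Fi22Chain.lev3_ok, rfl⟩,
    ⟨Fi22Chain.lev4_ok, rfl⟩, ⟨Fi22Chain.lev5_ok, rfl⟩]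

theorem take_lt : ∀ j < 7, ∀ c ∈ base6.take j, c < 3510 := by decide

theorem take_succ : ∀ j < 6, base6.take j ++ [base6.getD j 0] = base6.take (j + 1) ∧ base6.getD j 0 < 3510 := by
  decide

theorem step_bound {j : ℕ} (hj : j < 6) :
    Nat.card (fx (base6.take j)) = (orbSet (base6.take j) (base6.getD j 0)).ncard * Nat.card (fx (base6.take (j + 1))) ∧
      (chainLevels.getD j Fi22Chain.lev0).m ≤ (orbSet (base6.take j) (base6.getD j 0)).ncard := by
  obtain ⟨hok, hb⟩ := chain_ok j hj
  have hsub := points_sub _ (take_lt j (by omega)) _ hok (hb ▸ (take_succ j hj).2)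
  refine ⟨(take_succ j hj).1 ▸ card_fx _ (take_lt j (by omega)) _ (take_succ j hj).2, ?_⟩
  rw [← hb]
  refine le_of_eq_of_le hsub.2.symm ?_
  rw [← Set.ncard_coe_finset]
  exact Set.ncard_le_ncard hsub.1 ((Set.finite_lt_nat 3510).subset (by
    rintro p ⟨g, -, rfl⟩
    exact act_lt g (hb ▸ (take_succ j hj).2)))

theorem orbit_card {j : ℕ} (hj : j < 6) :
    (orbSet (base6.take j) (base6.getD j 0)).ncard ≤ (chainLevels.getD j Fi22Chain.lev0).m := by
  have := finiteK
  have h0 : Nat.card (fx (base6.take 0)) ≤ 64561751654400 :=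
    cardK ▸ Nat.le_of_dvd Nat.card_pos (Subgroup.card_subgroup_dvd_card _)
  have h6 : Nat.card (fx (base6.take 6)) = 1 := by
    rw [show base6.take 6 = [5, 0, 9, 13, 1, 8] from rfl, fx, fixSub_base, Subgroup.card_bot]
  obtain ⟨e0, b0⟩ := step_bound (show 0 < 6 by omega)
  obtain ⟨e1, b1⟩ := step_bound (show 1 < 6 by omega)
  obtain ⟨e2, b2⟩ := step_bound (show 2 < 6 by omega)
  obtain ⟨e3, b3⟩ := step_bound (show 3 < 6 by omega)
  obtain ⟨e4, b4⟩ := step_bound (show 4 < 6 by omega)
  obtain ⟨e5, b5⟩ := step_bound (show 5 < 6 by omega)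
  change 3510 ≤ _ at b0
  change 2816 ≤ _ at b1
  change 567 ≤ _ at b2
  change 120 ≤ _ at b3
  change 24 ≤ _ at b4
  change 4 ≤ _ at b5
  simp only [Nat.reduceAdd] at e0 e1 e2 e3 e4 e5
  rw [h6, mul_one] at e5
  have g5 : 4 ≤ Nat.card (fx (base6.take 5)) := e5 ▸ b5
  have g4 : 96 ≤ Nat.card (fx (base6.take 4)) := e4 ▸ (by simpa using Nat.mul_le_mul b4 g5)
  have g3 : 11520 ≤ Nat.card (fx (base6.take 3)) := e3 ▸ (by simpa using Nat.mul_le_mul b3 g4)
  have g2 : 6531840 ≤ Nat.card (fx (base6.take 2)) := e2 ▸ (by simpa using Nat.mul_le_mul b2 g3)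
  have g1 : 18393661440 ≤ Nat.card (fx (base6.take 1)) := e1 ▸ (by simpa using Nat.mul_le_mul b1 g2)
  have cancel : ∀ {o C f B P : ℕ}, C = o * f → C ≤ P → B ≤ f → 0 < B → ∀ {m : ℕ}, P = m * B → m ≤ o → 0 < m →
      o ≤ m ∧ f ≤ B := by
    intro o C f B P e hC hB hB0 m hP hm hm0
    subst e hP
    exact ⟨Nat.le_of_mul_le_mul_right ((Nat.mul_le_mul le_rfl hB).trans hC) hB0,
      Nat.le_of_mul_le_mul_left ((Nat.mul_le_mul hm le_rfl).trans hC) hm0⟩
  obtain ⟨r0, u1⟩ := cancel e0 h0 g1 (by norm_num) (m := 3510) (by norm_num) b0 (by norm_num)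
  obtain ⟨r1, u2⟩ := cancel e1 u1 g2 (by norm_num) (m := 2816) (by norm_num) b1 (by norm_num)
  obtain ⟨r2, u3⟩ := cancel e2 u2 g3 (by norm_num) (m := 567) (by norm_num) b2 (by norm_num)
  obtain ⟨r3, u4⟩ := cancel e3 u3 g4 (by norm_num) (m := 120) (by norm_num) b3 (by norm_num)
  obtain ⟨r4, u5⟩ := cancel e4 u4 g5 (by norm_num) (m := 24) (by norm_num) b4 (by norm_num)
  have r5 : (orbSet (base6.take 5) (base6.getD 5 0)).ncard ≤ 4 := e5 ▸ u5
  interval_cases j
  exacts [r0, r1, r2, r3, r4, r5]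

/-- An element fixing the earlier points sends the next one into the listed orbit. -/
theorem inOrb_act {j : ℕ} (hj : j < 6) {g : K} (hg : ∀ i < j, act g (base6.getD i 0) = base6.getD i 0) :
    inOrb j (act g (base6.getD j 0)) = true := by
  classical
  set L := chainLevels.getD j Fi22Chain.lev0 with hL
  obtain ⟨hok, hb⟩ := chain_ok j hj
  have hsub := points_sub _ (take_lt j (by omega)) _ hok (hb ▸ (take_succ j hj).2)
  have hfin : (orbSet (base6.take j) (base6.getD j 0)).Finite := (Set.finite_lt_nat 3510).subset (by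
    rintro p ⟨g, -, rfl⟩
    exact act_lt g (take_succ j hj).2)
  rw [← hL] at hsub hb
  rw [hb] at hsub
  have heq : (((Finset.range L.m).image L.point : Finset ℕ) : Set ℕ) = orbSet (base6.take j) (base6.getD j 0) :=
    Set.eq_of_subset_of_ncard_le hsub.1 (by rw [Set.ncard_coe_finset, hsub.2]; exact orbit_card hj) hfin
  have hmem : act g (base6.getD j 0) ∈ orbSet (base6.take j) (base6.getD j 0) := by
    refine ⟨g, (mem_fx (take_lt j (by omega))).mpr fun c hc => ?_, rfl⟩
    obtain ⟨i, hi, rfl⟩ := List.getElem_of_mem hc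
    rw [List.length_take] at hi
    have := hg i (by omega)
    rw [List.getElem_take]
    rwa [List.getD_eq_getElem _ _ (by omega)] at this
  rw [← heq, Finset.mem_coe, Finset.mem_image] at hmem
  obtain ⟨i, hi, e⟩ := hmem
  simp only [Level.ok, Bool.and_eq_true] at hok
  have h1 := allN_spec (f := fun i' => force i' (L.okPos Fi3510.table 9)) hok.2 i (Finset.mem_range.mp hi)
  simp only [force_eq, Level.okPos, Bool.and_eq_true] at h1
  have e1 : entry L.pos 64 20 (L.point i) = i := Nat.eq_of_beq_eq_true h1.1.2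
  rw [inOrb, ← hL, ← e, force_eq, e1, Bool.and_eq_true, blt_iff]
  exact ⟨Finset.mem_range.mp hi, Nat.beq_refl _⟩

end CfsgLib.CosetEnum.Fi22Three
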