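/-
Every element centralising an element of order three is among the listed products.
-/
import Cfsg.Agent.Lib.CosetEnum.Fi22Three.Case
import Cfsg.Agent.Lib.CosetEnum.Fi22Three.OrbitExact
import Cfsg.Agent.Lib.CosetEnum.Fi22Three.Rows

set_option autoImplicit false
set_option maxRecDepth 100000

namespace CfsgLib.CosetEnum.Fi22Three

open CfsgLib.CosetEnum

/-- The mask of all points. -/
noncomputable def allM : ℕ := Nat.sub (Nat.pow (nat_lit 2) (nat_lit 3510)) (nat_lit 1)

/-- The mask of a list. -/
noncomputable def maskOf (L : List ℕ) : ℕ :=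
  List.rec (motive := fun _ => ℕ) (nat_lit 0) (fun c _ m => Nat.lor m (Nat.shiftLeft (nat_lit 1) c)) L

theorem maskOf_spec : ∀ (L : List ℕ) (c : ℕ), bit (maskOf L) c = true → c ∈ L := by
  intro L
  induction L with
  | nil => intro c h; rw [bit_eq] at h; simp [maskOf] at h
  | cons a L ih =>
    intro c h
    rw [bit_eq] at h
    change Nat.testBit (maskOf L ||| 1 <<< a) c = true at h
    rw [Nat.testBit_lor, Nat.one_shiftLeft, Nat.testBit_two_pow, Bool.or_eq_true, decide_eq_true_eq] at h
    rcases h with h | h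
    · exact List.mem_cons_of_mem _ (ih c (by rw [bit_eq]; exact h))
    · exact h ▸ List.mem_cons_self

/-- The three pairs of a pair under the powers of an element. -/
noncomputable def triples (r : ℕ) (pairs : List (ℕ × ℕ)) : List (ℕ × ℕ) :=
  pairs.flatMap fun q => force q.1 fun b => force q.2 fun c =>
    force (pev (nat_lit 9) r b) fun b1 => force (pev (nat_lit 9) r c) fun c1 =>
      [(b, c), (b1, c1), (pev (nat_lit 9) r b1, pev (nat_lit 9) r c1)]

/-- The rows of the pairs are stored. -/
noncomputable def okValid (T : List (ℕ × ℕ)) : Bool :=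
  T.all fun q => Nat.blt q.1 (nat_lit 3510) && Nat.blt q.2 (nat_lit 3510) && bit validM q.1 && bit validM q.2

/-- The candidates left by one pair for the image of a point. -/
noncomputable def cut (f : ℕ) (q : ℕ × ℕ) (m : ℕ) : ℕ :=
  force q.1 fun bb => force q.2 fun cc =>
    Bool.rec
      (Bool.rec (Nat.land m (Nat.xor allM (row cc))) (Nat.land m (Nat.xor (row cc) (Nat.shiftLeft (nat_lit 1) cc)))
        (bit (row bb) f))
      (Nat.land m (Nat.shiftLeft (nat_lit 1) cc)) (Nat.beq f bb)

/-- The candidates for the image of a point. -/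
noncomputable def cand (r fixM f : ℕ) (T : List (ℕ × ℕ)) : ℕ :=
  List.rec (motive := fun _ => ℕ) (Bool.rec (Nat.xor allM fixM) fixM (Nat.beq (pev (nat_lit 9) r f) f))
    (fun q _ m => cut f q m) T

/-- The six points below `n` are sent to themselves after the word. -/
noncomputable def okBack (n : ℕ) (v : List ℕ) (T : List (ℕ × ℕ)) : Bool :=
  allN n fun i => force (base6.getD i (nat_lit 0)) fun b =>
    T.any fun q => Nat.beq q.1 b && Nat.beq (runT Fi3510.table (nat_lit 9) v q.2) b

/-- A node refutes a set of pairs. -/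
noncomputable def refuted (r fixM : ℕ) (nodes : List RNode) : ℕ → ℕ → List (ℕ × ℕ) → Bool :=
  Nat.rec (fun _ _ => false) fun _ ih i pairs =>
    okValid (triples r pairs) &&
    RNode.rec
      (motive := fun _ => Bool)
      (fun f kids => Nat.blt f (nat_lit 3510) &&
        Nat.beq (cand r fixM f (triples r pairs)) (maskOf (kids.map Prod.fst)) &&
        kids.all fun k => ih k.2 ((f, k.1) :: pairs))
      (fun j v => Nat.blt j (nat_lit 6) && v.all (fun l => Nat.blt l (nat_lit 9)) && okBack j v (triples r pairs) &&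
        force (base6.getD j (nat_lit 0)) fun b =>
          (triples r pairs).any fun q => Nat.beq q.1 b && !inOrb j (runT Fi3510.table (nat_lit 9) v q.2))
      (fun d v => Nat.blt d (nat_lit 3510) && v.all (fun l => Nat.blt l (nat_lit 9)) &&
        okBack (nat_lit 6) v (triples r pairs) &&
        !Nat.beq (runT Fi3510.table (nat_lit 9) v (pev (nat_lit 9) r d))
          (pev (nat_lit 9) r (runT Fi3510.table (nat_lit 9) v d)))
      (nodes.getD i (.split (nat_lit 3510) []))

/-- A map respects the pairs. -/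
def Respects (g : K) (pairs : List (ℕ × ℕ)) : Prop := ∀ q ∈ pairs, q.1 < 3510 → act g q.1 = q.2

variable {r fixM : ℕ} {g : K} {pairs : List (ℕ × ℕ)}

theorem respects_triples (hgx : Commute g (Pel 9 r)) (h : Respects g pairs) (hlt : ∀ q ∈ pairs, q.1 < 3510) :
    Respects g (triples r pairs) := by
  intro q hq _
  obtain ⟨p, hp, hqp⟩ := List.mem_flatMap.mp hq
  have hb := hlt p hp
  have e0 := h p hp hb
  have hc : p.2 < 3510 := e0 ▸ act_lt g hb
  have step : ∀ {b c : ℕ}, b < 3510 → c < 3510 → act g b = c →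
      act g (pev 9 r b) = pev 9 r c ∧ pev 9 r b < 3510 ∧ pev 9 r c < 3510 := by
    intro b c hb hc e
    rw [← act_Pel 9 le_rfl r hb, ← act_Pel 9 le_rfl r hc]
    refine ⟨?_, act_lt _ hb, act_lt _ hc⟩
    rw [← act_mul, hgx.eq, act_mul, e]
  obtain ⟨e1, hb1, hc1⟩ := step hb hc e0
  simp only [force_eq, List.mem_cons, List.not_mem_nil, or_false] at hqp
  rcases hqp with rfl | rfl | rfl
  exacts [e0, e1, (step hb1 hc1 e1).1]

theorem okValid_spec {T : List (ℕ × ℕ)} (h : okValid T = true) {q : ℕ × ℕ} (hq : q ∈ T) :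
    q.1 < 3510 ∧ q.2 < 3510 ∧ bit validM q.1 = true ∧ bit validM q.2 = true := by
  simp only [okValid, List.all_eq_true, Bool.and_eq_true, blt_iff] at h
  obtain ⟨⟨⟨a, b⟩, c⟩, d⟩ := h q hq
  exact ⟨a, b, c, d⟩

theorem bit_allM {c : ℕ} (hc : c < 3510) : Nat.testBit allM c = true := by
  show Nat.testBit (2 ^ 3510 - 1) c = true
  rw [Nat.testBit_two_pow_sub_one]
  exact decide_eq_true hc

/-- The mask of the fixed points is right. -/
noncomputable def okFixM (r fixM : ℕ) : Bool :=
  force (nat_lit 3510) fun n => allN n fun d => (bit fixM d == Nat.beq (pev (nat_lit 9) r d) d)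

theorem cand_spec (hfix : okFixM r fixM = true) (hgx : Commute g (Pel 9 r)) {f : ℕ} (hf : f < 3510) :
    ∀ T : List (ℕ × ℕ), okValid T = true → Respects g T → bit (cand r fixM f T) (act g f) = true := by
  set c := act g f with hc
  have hclt : c < 3510 := act_lt g hf
  intro T
  induction T with
  | nil =>
    intro _ _
    rw [okFixM, force_eq] at hfix
    have hm : ∀ d < 3510, (Nat.testBit fixM d = true ↔ pev 9 r d = d) := fun d hd => by
      rw [← bit_eq, show bit fixM d = Nat.beq (pev 9 r d) d from eq_of_beq (allN_spec hfix d hd)]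
      exact ⟨Nat.eq_of_beq_eq_true, fun e => by rw [e]; exact Nat.beq_refl d⟩
    have hiff : pev 9 r f = f ↔ pev 9 r c = c := by
      rw [← act_Pel 9 le_rfl r hf, ← act_Pel 9 le_rfl r hclt, hc, ← act_mul, ← hgx.eq, act_mul]
      exact ⟨fun e => by rw [e], fun e => act_injective g e⟩
    show bit (Bool.rec (Nat.xor allM fixM) fixM (Nat.beq (pev 9 r f) f)) c = true
    rw [bit_eq]
    cases hb : Nat.beq (pev 9 r f) f with
    | true => exact (hm c hclt).mpr (hiff.mp (Nat.eq_of_beq_eq_true hb))
    | false =>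
      show Nat.testBit (allM ^^^ fixM) c = true
      rw [Nat.testBit_xor, bit_allM hclt]
      cases ht : Nat.testBit fixM c with
      | false => rfl
      | true => exact absurd (hiff.mpr ((hm c hclt).mp ht)) (Nat.ne_of_beq_eq_false hb)
  | cons q T ih =>
    intro hv hr
    have hvT : okValid T = true := by
      simp only [okValid, List.all_cons, Bool.and_eq_true] at hv
      exact hv.2
    have hm := ih hvT fun p hp => hr p (List.mem_cons_of_mem _ hp)
    obtain ⟨hb, hcc, hvb, hvc⟩ := okValid_spec hv (List.mem_cons_self (a := q) (l := T))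
    have e : act g q.1 = q.2 := hr q List.mem_cons_self hb
    show bit (cut f q (cand r fixM f T)) c = true
    rw [bit_eq] at hm ⊢
    simp only [cut, force_eq]
    cases hfb : Nat.beq f q.1 with
    | true =>
      show Nat.testBit (cand r fixM f T &&& 1 <<< q.2) c = true
      rw [Nat.testBit_land, hm, Nat.one_shiftLeft, hc, Nat.eq_of_beq_eq_true hfb, e, Nat.testBit_two_pow_self]
      rfl
    | false =>
      have hne : f ≠ q.1 := Nat.ne_of_beq_eq_false hfb
      have hcne : c ≠ q.2 := fun h => hne (act_injective g (h.trans e.symm))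
      have hiff : bit (row q.1) f = true ↔ bit (row q.2) c = true := by
        rw [row_spec _ hb hvb f hf, row_spec _ hcc hvc c hclt, ← e, hc, conj_commute g hb hf]
      cases hbit : bit (row q.1) f with
      | true =>
        show Nat.testBit (cand r fixM f T &&& (row q.2 ^^^ 1 <<< q.2)) c = true
        rw [Nat.testBit_land, hm, Nat.testBit_xor, ← bit_eq, hiff.mp hbit, Nat.one_shiftLeft,
          Nat.testBit_two_pow_of_ne hcne.symm]
        rfl
      | false =>
        show Nat.testBit (cand r fixM f T &&& (allM ^^^ row q.2)) c = true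
        rw [Nat.testBit_land, hm, Nat.testBit_xor, bit_allM hclt, ← bit_eq]
        cases h2 : bit (row q.2) c with
        | false => rfl
        | true => rw [hiff.mpr h2] at hbit; exact absurd hbit (by simp)

theorem back_spec {n : ℕ} (hn : n ≤ 6) {v : List ℕ} (hv : ∀ l ∈ v, l < 9) {T : List (ℕ × ℕ)}
    (hT : okValid T = true) (hr : Respects g T) (h : okBack n v T = true) :
    ∀ i < n, act ((el v)⁻¹ * g) (base6.getD i 0) = base6.getD i 0 := by
  intro i hi
  have h' := allN_spec h i hi
  simp only [force_eq, List.any_eq_true, Bool.and_eq_true] at h'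
  obtain ⟨q, hq, h1, h2⟩ := h'
  obtain ⟨hb, hc, -, -⟩ := okValid_spec hT hq
  rw [act_mul, ← Nat.eq_of_beq_eq_true h1, hr q hq hb, act_of_lt _ hc]
  exact (Fi3510.cert.hom_inv_word Fi3510.hlt hid v hv ⟨_, hc⟩).trans ((Nat.eq_of_beq_eq_true h2).trans
    (Nat.eq_of_beq_eq_true h1).symm)

theorem refuted_spec {nodes : List RNode} (hfix : okFixM r fixM = true) (hgx : Commute g (Pel 9 r)) :
    ∀ (fuel i : ℕ) (pairs : List (ℕ × ℕ)), refuted r fixM nodes fuel i pairs = true → ¬ Respects g pairs := by
  intro fuel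
  induction fuel with
  | zero => intro i pairs h; simp [refuted] at h
  | succ fuel ih =>
    intro i pairs h hresp
    simp only [refuted, Bool.and_eq_true] at h
    obtain ⟨hv, h⟩ := h
    have hlt : ∀ q ∈ pairs, q.1 < 3510 := fun q hq => by
      have : (q.1, q.2) ∈ triples r pairs := List.mem_flatMap.mpr ⟨q, hq, by simp [force_eq]⟩
      exact (okValid_spec hv this).1
    have hT : Respects g (triples r pairs) := respects_triples hgx hresp hlt
    have hrun : ∀ {v : List ℕ}, (∀ l ∈ v, l < 9) → ∀ {d : ℕ}, d < 3510 →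
        act (el v)⁻¹ d = runT Fi3510.table 9 v d := fun hw d hd => by
      rw [act_of_lt _ hd]
      exact Fi3510.cert.hom_inv_word Fi3510.hlt hid _ hw ⟨d, hd⟩
    cases hn : nodes.getD i (RNode.split 3510 []) with
    | split f kids =>
      rw [hn] at h
      simp only [Bool.and_eq_true, blt_iff, List.all_eq_true] at h
      obtain ⟨⟨hf, hm⟩, hk⟩ := h
      have hc := cand_spec hfix hgx hf _ hv hT
      rw [Nat.eq_of_beq_eq_true hm] at hc
      obtain ⟨k, hk', e⟩ := List.mem_map.mp (maskOf_spec _ _ hc)
      refine ih k.2 ((f, k.1) :: pairs) (hk k hk') fun q hq hq' => ?_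
      rcases List.mem_cons.mp hq with rfl | hq
      · exact e.symm
      · exact hresp q hq hq'
    | sift j v =>
      rw [hn] at h
      simp only [Bool.and_eq_true, blt_iff, List.all_eq_true, force_eq, List.any_eq_true] at h
      obtain ⟨⟨⟨hj, hw⟩, hback⟩, q, hq, hqb, hqo⟩ := h
      obtain ⟨hb, hc, -, -⟩ := okValid_spec hv hq
      have := inOrb_act hj (back_spec hj.le hw hv hT hback)
      rw [act_mul, ← Nat.eq_of_beq_eq_true hqb, hT q hq hb, hrun hw hc] at this
      rw [this] at hqo
      simp at hqo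
    | mism d v =>
      rw [hn] at h
      simp only [Bool.and_eq_true, blt_iff, List.all_eq_true] at h
      obtain ⟨⟨⟨hd, hw⟩, hback⟩, hbad⟩ := h
      have hone : (el v)⁻¹ * g = 1 := ext6 fun b hb => by
        obtain ⟨i, hi, rfl⟩ := List.getElem_of_mem hb
        rw [act_one]
        have := back_spec le_rfl hw hv hT hback i hi
        rwa [List.getD_eq_getElem _ _ hi] at this
      have hg : Commute (el v)⁻¹ (Pel 9 r) := by
        rw [inv_mul_eq_one.mp hone]
        exact hgx.inv_left
      have hd' : pev 9 r d < 3510 := act_Pel 9 le_rfl r hd ▸ act_lt _ hd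
      rw [← hrun hw hd', ← act_Pel 9 le_rfl r hd, ← act_mul, hg.eq, act_mul, hrun hw hd,
        act_Pel 9 le_rfl r (by rw [← hrun hw hd]; exact act_lt _ hd)] at hbad
      simp at hbad

namespace NData

variable (C : NData)

/-- The packed fields of a witness. -/
noncomputable def okWit (pref : List ℕ) (b : ℕ) (excl : List (ℕ × ℕ)) (w : ℕ) : Bool :=
  force (fld w (nat_lit 0) (nat_lit 12)) fun c => force (fld w (nat_lit 12) (nat_lit 12)) fun c0 =>
  force (fld w (nat_lit 24) (nat_lit 12)) fun i => force (fld w (nat_lit 36) (nat_lit 16)) fun t =>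
    Nat.blt i C.cosets.length && Nat.blt t C.qN && Nat.blt c0 (nat_lit 3510) &&
    (Nat.beq c0 b || excl.any fun e => Nat.beq e.1 c0) &&
    Nat.beq (C.cev i (force c0 (C.qev t))) c &&
    pref.all (fun p => Nat.beq (C.cev i (force p (C.qev t))) p) &&
    base6.all fun p => force (force p (C.qev t)) fun q => force (C.cev i q) fun hp =>
      Nat.beq (pev (nat_lit 9) C.root hp) (C.cev i (force (pev (nat_lit 9) C.root p) (C.qev t)))

/-- The check of one level. -/
noncomputable def okLevel (pref : List ℕ) (L : ℕ × List ℕ × List (ℕ × ℕ)) : Bool :=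
  Nat.blt L.1 (nat_lit 3510) &&
  okValid (triples C.root (pref.map fun p => (p, p))) &&
  Nat.beq (cand C.root C.fixM L.1 (triples C.root (pref.map fun p => (p, p))))
    (maskOf (L.2.1.map fun w => fld w (nat_lit 0) (nat_lit 12))) &&
  L.2.1.all (C.okWit pref L.1 L.2.2) &&
  L.2.2.all fun e => refuted C.root C.fixM C.nodes (nat_lit 16) e.2 ((L.1, e.1) :: pref.map fun p => (p, p))

/-- The check of all levels. -/
noncomputable def okLevels (Ls : List (ℕ × List ℕ × List (ℕ × ℕ))) : List ℕ → Bool :=
  List.rec (motive := fun _ => List ℕ → Bool) (fun pref => base6.all fun b => pref.any (Nat.beq b))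
    (fun L _ ih pref => C.okLevel pref L && ih (L.1 :: pref)) Ls

theorem levels_spec (hg : C.okGens = true) (hc : C.okCosets = true) (hfix : okFixM C.root C.fixM = true)
    (N : Subgroup K) (hN : ∀ i < C.cosets.length, ∀ t < C.qN, C.cos i * C.qel t ∈ N) :
    ∀ (Ls : List (ℕ × List ℕ × List (ℕ × ℕ))) (pref : List ℕ), (∀ p ∈ pref, p < 3510) →
      C.okLevels Ls pref = true →
      ∀ g : K, Commute g C.x → (∀ p ∈ pref, act g p = p) → g ∈ N := by
  intro Ls
  induction Ls with
  | nil =>
    intro pref _ h g _ hgp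
    have : g = 1 := ext6 fun b hb => by
      have h' : (base6.all fun b => pref.any (Nat.beq b)) = true := h
      obtain ⟨p, hp, e⟩ := List.any_eq_true.mp (List.all_eq_true.mp h' b hb)
      rw [act_one, Nat.eq_of_beq_eq_true e]
      exact hgp p hp
    exact this ▸ one_mem N
  | cons L Ls ih =>
    intro pref hpref h g hgx hgp
    have h' : C.okLevel pref L = true ∧ C.okLevels Ls (L.1 :: pref) = true := Bool.and_eq_true_iff.mp h
    obtain ⟨hL, hrest⟩ := h'
    simp only [okLevel, Bool.and_eq_true, blt_iff, List.all_eq_true] at hL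
    obtain ⟨⟨⟨⟨hb, hv⟩, hm⟩, hwit⟩, hex⟩ := hL
    have hresp : ∀ {g : K}, (∀ p ∈ pref, act g p = p) → Respects g (pref.map fun p => (p, p)) := by
      intro g hgp q hq _
      obtain ⟨p, hp, rfl⟩ := List.mem_map.mp hq
      exact hgp p hp
    have hT := respects_triples hgx (hresp hgp) (fun q hq => by
      obtain ⟨p, hp, rfl⟩ := List.mem_map.mp hq
      exact hpref p hp)
    have hcand := cand_spec hfix hgx hb _ hv hT
    rw [Nat.eq_of_beq_eq_true hm] at hcand
    obtain ⟨w, hw, hwc⟩ := List.mem_map.mp (maskOf_spec _ _ hcand)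
    have hw' := hwit w hw
    simp only [okWit, force_eq, Bool.and_eq_true, blt_iff, List.all_eq_true, Bool.or_eq_true] at hw'
    rw [hwc] at hw'
    obtain ⟨⟨⟨⟨⟨⟨hi, ht⟩, hc0⟩, hsrc⟩, hmap⟩, hfx⟩, hcom⟩ := hw'
    set i := fld w 24 12
    set t := fld w 36 16
    set c0 := fld w 12 12
    set k := C.cos i * C.qel t
    have hk : ∀ d < 3510, act k d = C.cev i (C.qev t d) := fun d hd => by
      rw [act_mul, C.act_cos hg hc i (act_lt _ hd), C.act_qel t hd]
    have hkN : k ∈ N := hN i hi t ht
    have hkx : Commute k C.x := ext6 fun p hp => by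
      have hp' := base6_lt p hp
      rw [act_mul k C.x, act_mul C.x k, C.act_x hp', hk _ (C.act_x hp' ▸ act_lt _ hp'), C.act_x (act_lt k hp'), hk p hp']
      exact (Nat.eq_of_beq_eq_true (hcom p hp)).symm
    have hkp : ∀ p ∈ pref, act k⁻¹ p = p := fun p hp => by
      have e : act k p = p := (hk p (hpref p hp)).trans (Nat.eq_of_beq_eq_true (hfx p hp))
      conv_lhs => rw [← e]
      exact act_inv_act k p
    have hgx' : Commute (k⁻¹ * g) C.x := hkx.inv_left.mul_left hgx
    have hgp' : ∀ p ∈ pref, act (k⁻¹ * g) p = p := fun p hp => by rw [act_mul, hgp p hp, hkp p hp]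
    have himg : act (k⁻¹ * g) L.1 = c0 := by
      rw [act_mul, ← Nat.eq_of_beq_eq_true hmap, ← hk c0 hc0, act_inv_act]
    rcases hsrc with hs | hs
    · have hh : k⁻¹ * g ∈ N := ih (L.1 :: pref) (fun p hp => (List.mem_cons.mp hp).elim (fun e => e ▸ hb) (hpref p))
        hrest _ hgx' fun p hp => by
          rcases List.mem_cons.mp hp with rfl | hp
          · exact himg.trans (Nat.eq_of_beq_eq_true hs)
          · exact hgp' p hp
      simpa using mul_mem hkN hh
    · obtain ⟨e, he, hec⟩ := List.any_eq_true.mp hs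
      refine absurd (?_ : Respects (k⁻¹ * g) ((L.1, e.1) :: pref.map fun p => (p, p)))
        (refuted_spec hfix hgx' _ _ _ (hex e he))
      intro q hq _
      rcases List.mem_cons.mp hq with rfl | hq
      · exact himg.trans (Nat.eq_of_beq_eq_true hec).symm
      · exact hresp hgp' q hq (by obtain ⟨p, hp, rfl⟩ := List.mem_map.mp hq; exact hpref p hp)

end NData

end CfsgLib.CosetEnum.Fi22Three
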