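/-
The normalizer of a subgroup of order three as the listed products.
-/
import Cfsg.Agent.Lib.CosetEnum.Fi22Three.Bound

set_option autoImplicit false
set_option maxRecDepth 100000

namespace CfsgLib.CosetEnum.Fi22Three

open CfsgLib.CosetEnum

theorem Pel_injective : Set.InjOn (Pel 9) (Set.Iio 19683) := by
  have := finiteK
  intro a ha b hb e
  let f : Fin 19683 → H 9 := fun i => ⟨Pel 9 i, Pel_mem 9 i⟩
  have hs : Function.Surjective f := fun g => by
    obtain ⟨i, hi, e⟩ := (H_spec 9 le_rfl).1 g g.2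
    exact ⟨⟨i, hi⟩, Subtype.ext e⟩
  have hbij : Function.Bijective f := hs.bijective_of_nat_card_le (by rw [Nat.card_fin, (H_spec 9 le_rfl).2]; norm_num)
  exact congrArg Fin.val (hbij.1 (a₁ := ⟨a, ha⟩) (a₂ := ⟨b, hb⟩) (Subtype.ext e))

theorem map_conj_le {G : Type*} [Group G] [Finite G] {H : Subgroup G} {g : G} (h : ∀ x ∈ H, g * x * g⁻¹ ∈ H) :
    g ∈ Subgroup.normalizer (H : Set G) := by
  refine Subgroup.mem_normalizer_iff.mpr fun x => ⟨h x, fun hx => ?_⟩
  have hle : H.map (MulAut.conj g).toMonoidHom ≤ H := by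
    rintro _ ⟨y, hy, rfl⟩
    exact h y hy
  have heq := Subgroup.eq_of_le_of_card_ge hle
    (le_of_eq (Subgroup.card_map_of_injective (MulAut.conj g).injective).symm)
  obtain ⟨y, hy, e⟩ := heq.symm ▸ hx
  rwa [← (MulAut.conj g).injective e]

namespace NData

variable (C : NData)

/-- The check of the normal subgroup. -/
noncomputable def okQ : Bool :=
  Nat.beq (C.qi (nat_lit 0)) (nat_lit 0) && Nat.blt (nat_lit 0) C.qN &&
  (allN C.qGen.length fun m => force (C.qGen.getD m (nat_lit 0)) fun a => allN C.qN fun t =>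
    force (entry C.qMul (nat_lit 64) (nat_lit 12) (Nat.add (Nat.mul m C.qN) t)) fun t' => Nat.blt t' C.qN &&
      base6.all fun b => Nat.beq (force (C.qev t b) (pev (nat_lit 9) a)) (C.qev t' b)) &&
  (allN C.qN fun t => Nat.beq t (nat_lit 0) || (List.range C.qGen.length).any fun m =>
    force (entry C.qMul (nat_lit 64) (nat_lit 12) (Nat.add (Nat.mul m C.qN) t)) fun t1 =>
    force (entry C.qMul (nat_lit 64) (nat_lit 12) (Nat.add (Nat.mul m C.qN) t1)) fun t0 =>
      Nat.blt t0 t && Nat.beq (entry C.qMul (nat_lit 64) (nat_lit 12) (Nat.add (Nat.mul m C.qN) t0)) t) &&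
  (allN C.qN fun t => Nat.blt (C.qi t) (nat_lit 19683) &&
    (Nat.beq t (nat_lit 0) || Nat.blt (C.qi (Nat.pred t)) (C.qi t))) &&
  ((List.range C.qN).any fun t => Nat.beq (C.qi t) C.root) &&
  (allN C.qGen.length fun m => force (C.qGen.getD m (nat_lit 0)) fun a => base6.all fun b =>
    Nat.beq (force (pev (nat_lit 9) C.root b) (pev (nat_lit 9) a)) (force (pev (nat_lit 9) a b) (pev (nat_lit 9) C.root)))

/-- The check of the action of the generators. -/
noncomputable def okNorm : Bool :=
  Nat.beq C.gensP.length C.gensW.length && (C.gensP.any (Nat.beq (nat_lit 2))) &&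
  (allN C.gensW.length fun s => force (C.gensP.getD s (nat_lit 0)) fun p => base6.all fun b =>
    force (pev (nat_lit 9) C.root b) fun xb => force (C.gperm s b) fun gb =>
      (Nat.beq p (nat_lit 1) && Nat.beq (C.gperm s xb) (pev (nat_lit 9) C.root gb)) ||
      (Nat.beq p (nat_lit 2) && Nat.beq (C.gperm s xb) (force (pev (nat_lit 9) C.root gb) (pev (nat_lit 9) C.root)))) &&
  allN C.gensW.length fun s => allN C.qGen.length fun m =>
    force ((C.qConj.getD s []).getD m (nat_lit 0)) fun t => force (C.qGen.getD m (nat_lit 0)) fun a =>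
      Nat.blt t C.qN && base6.all fun b => Nat.beq (force (pev (nat_lit 9) a b) (C.gperm s)) (force (C.gperm s b) (C.qev t))

/-- The check of one product of a generator with a coset. -/
noncomputable def okCt (s i : ℕ) : Bool :=
  force (entry C.ctab (nat_lit 64) (nat_lit 24) (Nat.add (Nat.mul s C.cosets.length) i)) fun v =>
    force (fld v (nat_lit 0) (nat_lit 12)) fun j => force (fld v (nat_lit 12) (nat_lit 12)) fun t =>
      Nat.blt j C.cosets.length && Nat.blt t C.qN &&
        base6.all fun b => Nat.beq (force (C.cev i b) (C.gperm s)) (force (C.qev t b) (C.cev j))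

/-- The element has order three. -/
noncomputable def okOrder : Bool :=
  force C.root fun r => base6.all (fun b => Nat.beq (force (force (pev (nat_lit 9) r b) (pev (nat_lit 9) r)) (pev (nat_lit 9) r)) b) &&
    base6.any fun b => !Nat.beq (pev (nat_lit 9) r b) b

theorem order_x (h : C.okOrder = true) : orderOf C.x = 3 := by
  simp only [okOrder, force_eq, Bool.and_eq_true, List.all_eq_true, List.any_eq_true] at h
  refine orderOf_eq_prime (p := 3) (ext6 fun b hb => ?_) fun e => ?_
  · have hb' := base6_lt b hb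
    have h1 : pev 9 C.root b < 3510 := C.act_x hb' ▸ act_lt _ hb'
    have h2 : pev 9 C.root (pev 9 C.root b) < 3510 := C.act_x h1 ▸ act_lt _ h1
    rw [show C.x ^ 3 = C.x * C.x * C.x by simp [pow_succ], act_mul, act_mul, C.act_x hb', C.act_x h1, C.act_x h2,
      act_one]
    exact Nat.eq_of_beq_eq_true (h.1 b hb)
  · obtain ⟨b, hb, hne⟩ := h.2
    rw [← C.act_x (base6_lt b hb), e, act_one] at hne
    simp at hne

/-- The checks of a case. -/
structure Checked : Prop where
  gens : C.okGens = true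
  cosets : C.okCosets = true
  first : C.cosets.getD 0 [0] = []
  fixed : okFixM C.root C.fixM = true
  q : C.okQ = true
  norm : C.okNorm = true
  ctab : ∀ s < C.gensW.length, ∀ i < C.cosets.length, C.okCt s i = true
  levels : C.okLevels C.levels [] = true

/-- The normal subgroup. -/
noncomputable def Q : Subgroup K := Subgroup.closure {g | ∃ a ∈ C.qGen, Pel 9 a = g}

/-- The normalizer. -/
noncomputable def N : Subgroup K :=
  Subgroup.closure ({g | ∃ s < C.gensW.length, C.gen s = g} ∪ (C.Q : Set K))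

variable {C}

theorem Checked.mul_qel (h : C.Checked) {m : ℕ} (hm : m < C.qGen.length) {t : ℕ} (ht : t < C.qN) :
    ∃ t' < C.qN, entry C.qMul 64 12 (m * C.qN + t) = t' ∧ Pel 9 (C.qGen.getD m 0) * C.qel t = C.qel t' := by
  have hq := h.q
  simp only [okQ, Bool.and_eq_true] at hq
  have h1 := allN_spec hq.1.1.1.1.2 m hm
  simp only [force_eq] at h1
  have := allN_spec h1 t ht
  simp only [force_eq, Bool.and_eq_true, blt_iff, List.all_eq_true] at this
  refine ⟨_, this.1, rfl, ext6 fun b hb => ?_⟩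
  have hb' := base6_lt b hb
  rw [act_mul, C.act_qel t hb', act_Pel 9 le_rfl _ (C.act_qel t hb' ▸ act_lt _ hb'), C.act_qel _ hb']
  exact Nat.eq_of_beq_eq_true (this.2 b hb)

theorem Checked.qel_zero (h : C.Checked) : C.qel 0 = 1 := by
  have hq := h.q
  simp only [okQ, Bool.and_eq_true] at hq
  rw [qel, Nat.eq_of_beq_eq_true hq.1.1.1.1.1.1, Pel_zero]

theorem Checked.qN_pos (h : C.Checked) : 0 < C.qN := by
  have hq := h.q
  simp only [okQ, Bool.and_eq_true, blt_iff] at hq
  exact hq.1.1.1.1.1.2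

theorem Checked.qel_mem (h : C.Checked) : ∀ t < C.qN, C.qel t ∈ C.Q := by
  intro t
  induction t using Nat.strong_induction_on with
  | _ t ih =>
    intro ht
    rcases Nat.eq_zero_or_pos t with rfl | ht0
    · rw [h.qel_zero]; exact one_mem _
    have hq := h.q
    simp only [okQ, Bool.and_eq_true] at hq
    have := allN_spec hq.1.1.1.2 t ht
    simp only [Bool.or_eq_true, List.any_eq_true, force_eq, Bool.and_eq_true, blt_iff] at this
    rcases this with this | ⟨m, hm, h0, h1⟩
    · exact absurd (Nat.eq_of_beq_eq_true this) ht0.ne'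
    rw [List.mem_range] at hm
    obtain ⟨t', -, e1, e2⟩ := h.mul_qel hm (h0.trans ht)
    rw [← Nat.eq_of_beq_eq_true h1]
    erw [e1]
    rw [← e2]
    refine mul_mem (Subgroup.subset_closure ⟨_, ?_, rfl⟩) (ih _ h0 (h0.trans ht))
    rw [List.getD_eq_getElem _ _ hm]
    exact List.getElem_mem hm

theorem Checked.mem_Q (h : C.Checked) {g : K} : g ∈ C.Q ↔ ∃ t < C.qN, C.qel t = g := by
  have := finiteK
  refine ⟨fun hg => ?_, fun ⟨t, ht, e⟩ => e ▸ h.qel_mem t ht⟩
  have hg' : g ∈ Submonoid.closure {g | ∃ a ∈ C.qGen, Pel 9 a = g} := by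
    rw [← Subgroup.closure_toSubmonoid_of_finite]; exact hg
  clear hg
  induction hg' using Submonoid.closure_induction_left with
  | one => exact ⟨0, h.qN_pos, h.qel_zero⟩
  | mul_left s hs g _ ih =>
    obtain ⟨t, ht, rfl⟩ := ih
    obtain ⟨a, ha, rfl⟩ := hs
    obtain ⟨m, hm, rfl⟩ := List.getElem_of_mem ha
    obtain ⟨t', ht', -, e⟩ := h.mul_qel hm ht
    exact ⟨t', ht', by rw [← e, List.getD_eq_getElem _ _ hm]⟩

theorem Checked.qi_mono (h : C.Checked) : ∀ {s t : ℕ}, s < t → t < C.qN → C.qi s < C.qi t := by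
  intro s t hst
  induction t with
  | zero => exact absurd hst (Nat.not_lt_zero s)
  | succ t ih =>
    intro ht
    have hq := h.q
    simp only [okQ, Bool.and_eq_true] at hq
    have := allN_spec hq.1.1.2 (t + 1) ht
    simp only [Bool.and_eq_true, Bool.or_eq_true, blt_iff] at this
    have hstep : C.qi t < C.qi (t + 1) := this.2.resolve_left (fun q => absurd (Nat.eq_of_beq_eq_true q) (by omega))
    rcases Nat.lt_succ_iff_lt_or_eq.mp hst with h' | rfl
    · exact (ih h' (Nat.lt_of_succ_lt ht)).trans hstep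
    · exact hstep

theorem Checked.qi_lt (h : C.Checked) {t : ℕ} (ht : t < C.qN) : C.qi t < 19683 := by
  have hq := h.q
  simp only [okQ, Bool.and_eq_true] at hq
  have := allN_spec hq.1.1.2 t ht
  simp only [Bool.and_eq_true, blt_iff] at this
  exact this.1

theorem Checked.qel_injective (h : C.Checked) : Set.InjOn C.qel (Set.Iio C.qN) := by
  intro s hs t ht e
  have := Pel_injective (h.qi_lt hs) (h.qi_lt ht) e
  rcases lt_trichotomy s t with q | q | q
  · exact absurd this (h.qi_mono q ht).ne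
  · exact q
  · exact absurd this (h.qi_mono q hs).ne'

theorem Checked.card_Q (h : C.Checked) : Nat.card C.Q = C.qN := by
  have e : (C.Q : Set K) = C.qel '' Set.Iio C.qN := by
    ext g
    exact h.mem_Q.trans ⟨fun ⟨t, a, b⟩ => ⟨t, a, b⟩, fun ⟨t, a, b⟩ => ⟨t, a, b⟩⟩
  rw [← SetLike.coe_sort_coe, Nat.card_coe_set_eq, e, Set.ncard_image_of_injOn h.qel_injective,
    Set.ncard_eq_toFinset_card']
  simp

theorem Checked.x_mem (h : C.Checked) : C.x ∈ C.Q := by
  have hq := h.q
  simp only [okQ, Bool.and_eq_true, List.any_eq_true] at hq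
  obtain ⟨t, ht, e⟩ := hq.1.2
  have := h.qel_mem t (List.mem_range.mp ht)
  rwa [qel, Nat.eq_of_beq_eq_true e] at this

theorem Checked.Q_commute (h : C.Checked) : ∀ q ∈ C.Q, Commute q C.x := by
  intro q hq
  induction hq using Subgroup.closure_induction with
  | mem g hg =>
    obtain ⟨a, ha, rfl⟩ := hg
    obtain ⟨m, hm, rfl⟩ := List.getElem_of_mem ha
    have hq := h.q
    simp only [okQ, Bool.and_eq_true] at hq
    have := allN_spec hq.2 m hm
    simp only [force_eq, List.all_eq_true] at this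
    refine ext6 fun b hb => ?_
    have hb' := base6_lt b hb
    rw [List.getD_eq_getElem _ _ hm] at this
    rw [act_mul, act_mul, C.act_x hb', act_Pel 9 le_rfl _ (C.act_x hb' ▸ act_lt _ hb'),
      C.act_x (act_lt _ hb'), act_Pel 9 le_rfl _ hb']
    exact Nat.eq_of_beq_eq_true (this b hb)
  | one => exact Commute.one_left _
  | mul a b _ _ ha hb => exact ha.mul_left hb
  | inv a _ ha => exact ha.inv_left

theorem Checked.gen_x (h : C.Checked) {s : ℕ} (hs : s < C.gensW.length) :
    C.gensP.getD s 0 = 1 ∧ C.gen s * C.x = C.x * C.gen s ∨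
      C.gensP.getD s 0 = 2 ∧ C.gen s * C.x = C.x * C.x * C.gen s := by
  have hn := h.norm
  simp only [okNorm, Bool.and_eq_true] at hn
  have := allN_spec hn.1.2 s hs
  simp only [force_eq, List.all_eq_true, Bool.or_eq_true, Bool.and_eq_true] at this
  have e : ∀ {b : ℕ}, b < 3510 → act (C.gen s * C.x) b = C.gperm s (pev 9 C.root b) ∧
      act (C.x * C.gen s) b = pev 9 C.root (C.gperm s b) ∧
      act (C.x * C.x * C.gen s) b = pev 9 C.root (pev 9 C.root (C.gperm s b)) := fun {b} hb => by
    have hxg : act (C.x * C.gen s) b = pev 9 C.root (C.gperm s b) := by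
      rw [act_mul, C.act_x (act_lt _ hb), C.act_gen h.gens hs hb]
    refine ⟨?_, hxg, ?_⟩
    · rw [act_mul, C.act_gen h.gens hs (act_lt _ hb), C.act_x hb]
    · rw [mul_assoc, act_mul, C.act_x (act_lt _ hb), hxg]
  rcases this 5 (by decide) with ⟨hp, -⟩ | ⟨hp, -⟩
  · refine Or.inl ⟨Nat.eq_of_beq_eq_true hp, ext6 fun b hb => ?_⟩
    obtain ⟨e1, e2, -⟩ := e (base6_lt b hb)
    rw [e1, e2]
    exact Nat.eq_of_beq_eq_true ((this b hb).resolve_right fun q => by
      rw [Nat.eq_of_beq_eq_true hp] at q; exact absurd q.1 (by decide)).2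
  · refine Or.inr ⟨Nat.eq_of_beq_eq_true hp, ext6 fun b hb => ?_⟩
    obtain ⟨e1, -, e3⟩ := e (base6_lt b hb)
    rw [e1, e3]
    exact Nat.eq_of_beq_eq_true ((this b hb).resolve_left fun q => by
      rw [Nat.eq_of_beq_eq_true hp] at q; exact absurd q.1 (by decide)).2

theorem Checked.gen_conj_Q (h : C.Checked) {s : ℕ} (hs : s < C.gensW.length) :
    ∀ q ∈ C.Q, C.gen s * q * (C.gen s)⁻¹ ∈ C.Q := by
  intro q hq
  induction hq using Subgroup.closure_induction with
  | mem g hg =>
    obtain ⟨a, ha, rfl⟩ := hg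
    obtain ⟨m, hm, rfl⟩ := List.getElem_of_mem ha
    have hn := h.norm
    simp only [okNorm, Bool.and_eq_true] at hn
    have := allN_spec (allN_spec hn.2 s hs) m hm
    simp only [force_eq, Bool.and_eq_true, blt_iff, List.all_eq_true] at this
    obtain ⟨ht, hb⟩ := this
    rw [List.getD_eq_getElem _ _ hm] at hb
    have e : C.gen s * Pel 9 C.qGen[m] = C.qel ((C.qConj.getD s []).getD m 0) * C.gen s := ext6 fun b hb' => by
      have hb'' := base6_lt b hb'
      rw [act_mul, act_mul, C.act_gen h.gens hs (act_lt _ hb''), act_Pel 9 le_rfl _ hb'', C.act_qel _ (act_lt _ hb''),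
        C.act_gen h.gens hs hb'']
      exact Nat.eq_of_beq_eq_true (hb b hb')
    rw [e, mul_inv_cancel_right]
    exact h.qel_mem _ ht
  | one => simp
  | mul a b _ _ ha hb =>
    have := mul_mem ha hb
    rwa [show C.gen s * a * (C.gen s)⁻¹ * (C.gen s * b * (C.gen s)⁻¹) = C.gen s * (a * b) * (C.gen s)⁻¹ by group] at this
  | inv a _ ha =>
    have := inv_mem ha
    rwa [show (C.gen s * a * (C.gen s)⁻¹)⁻¹ = C.gen s * a⁻¹ * (C.gen s)⁻¹ by group] at this

theorem Q_le_N : C.Q ≤ C.N := fun q hq => Subgroup.subset_closure (Or.inr hq)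

theorem gen_mem_N {s : ℕ} (hs : s < C.gensW.length) : C.gen s ∈ C.N := Subgroup.subset_closure (Or.inl ⟨s, hs, rfl⟩)

theorem Checked.cos_mem (h : C.Checked) {i : ℕ} (hi : i < C.cosets.length) : C.cos i ∈ C.N := by
  refine Subgroup.list_prod_mem _ fun g hg => ?_
  obtain ⟨s, hs, rfl⟩ := List.mem_map.mp hg
  have hc := h.cosets
  simp only [okCosets, List.all_eq_true, blt_iff] at hc
  rw [List.getD_eq_getElem _ _ hi] at hs
  exact gen_mem_N (hc _ (List.getElem_mem hi) s hs)

theorem Checked.N_normalizes_Q (h : C.Checked) : C.N ≤ Subgroup.normalizer (C.Q : Set K) := by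
  have := finiteK
  refine (Subgroup.closure_le _).mpr ?_
  rintro g (⟨s, hs, rfl⟩ | hg)
  · exact map_conj_le (h.gen_conj_Q hs)
  · exact Subgroup.le_normalizer hg

theorem Checked.mem_N (h : C.Checked) {g : K} (hg : g ∈ C.N) :
    ∃ i < C.cosets.length, ∃ t < C.qN, C.cos i * C.qel t = g := by
  have := finiteK
  have hf := h.first
  have h0 : 0 < C.cosets.length := by
    rcases Nat.eq_zero_or_pos C.cosets.length with q | q
    · rw [List.getD_eq_default _ _ (by omega)] at hf; exact absurd hf (by simp)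
    · exact q
  have hc0 : C.cos 0 = 1 := by
    rw [List.getD_eq_getElem _ _ h0] at hf
    rw [cos, List.getD_eq_getElem _ _ h0, hf]; rfl
  have hconjQ : ∀ i < C.cosets.length, ∀ q ∈ C.Q, (C.cos i)⁻¹ * q * C.cos i ∈ C.Q := fun i hi q hq => by
    have := Subgroup.mem_normalizer_iff.mp (inv_mem (h.N_normalizes_Q (h.cos_mem hi))) q
    simpa using this.mp hq
  have hg' : g ∈ Submonoid.closure ({g | ∃ s < C.gensW.length, C.gen s = g} ∪ (C.Q : Set K)) := by
    rw [← Subgroup.closure_toSubmonoid_of_finite]; exact hg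
  clear hg
  induction hg' using Submonoid.closure_induction_left with
  | one => exact ⟨0, h0, 0, h.qN_pos, by rw [hc0, h.qel_zero, one_mul]⟩
  | mul_left y hy g _ ih =>
    obtain ⟨i, hi, t, ht, rfl⟩ := ih
    rcases hy with ⟨s, hs, rfl⟩ | hy
    · have hct := h.ctab s hs i hi
      simp only [okCt, force_eq, Bool.and_eq_true, blt_iff, List.all_eq_true] at hct
      obtain ⟨⟨hj, ht1⟩, hb⟩ := hct
      set v := entry C.ctab 64 24 (Nat.add (Nat.mul s C.cosets.length) i)
      have e : C.gen s * C.cos i = C.cos (fld v 0 12) * C.qel (fld v 12 12) := ext6 fun b hb' => by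
        have hb'' := base6_lt b hb'
        rw [act_mul, act_mul, C.act_gen h.gens hs (act_lt _ hb''), C.act_cos h.gens h.cosets i hb'',
          C.act_cos h.gens h.cosets _ (act_lt _ hb''), C.act_qel _ hb'']
        exact Nat.eq_of_beq_eq_true (hb b hb')
      obtain ⟨t2, ht2, e2⟩ := h.mem_Q.mp (mul_mem (h.qel_mem _ ht1) (h.qel_mem t ht))
      exact ⟨_, hj, t2, ht2, by rw [e2, ← mul_assoc, ← e, mul_assoc]⟩
    · obtain ⟨t2, ht2, e2⟩ := h.mem_Q.mp (mul_mem (hconjQ i hi y hy) (h.qel_mem t ht))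
      exact ⟨i, hi, t2, ht2, by rw [e2]; group⟩

theorem Checked.mem_N_of_commute (h : C.Checked) {g : K} (hg : Commute g C.x) : g ∈ C.N :=
  C.levels_spec h.gens h.cosets h.fixed C.N (fun _ hi _ ht => mul_mem (h.cos_mem hi) (Q_le_N (h.qel_mem _ ht)))
    C.levels [] (by simp) h.levels g hg (by simp)

/-- The normalizer is the group of the listed products. -/
theorem Checked.normalizer_eq (h : C.Checked) (hx3 : orderOf C.x = 3) :
    Subgroup.normalizer ((Subgroup.zpowers C.x : Subgroup K) : Set K) = C.N := by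
  have := finiteK
  have hpow : C.x ^ 3 = 1 := by rw [← hx3]; exact pow_orderOf_eq_one _
  have hgen : ∀ s < C.gensW.length, C.gen s * C.x * (C.gen s)⁻¹ ∈ Subgroup.zpowers C.x := fun s hs => by
    rcases h.gen_x hs with ⟨-, e⟩ | ⟨-, e⟩ <;> rw [e, mul_inv_cancel_right]
    · exact Subgroup.mem_zpowers _
    · exact mul_mem (Subgroup.mem_zpowers _) (Subgroup.mem_zpowers _)
  have key : ∀ g : K, g * C.x * g⁻¹ ∈ Subgroup.zpowers C.x →
      g ∈ Subgroup.normalizer ((Subgroup.zpowers C.x : Subgroup K) : Set K) := fun g hg => map_conj_le fun y hy => by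
    obtain ⟨n, rfl⟩ := Subgroup.mem_zpowers_iff.mp hy
    rw [← conj_zpow]
    exact zpow_mem hg n
  refine le_antisymm (fun g hg => ?_) ((Subgroup.closure_le _).mpr ?_)
  · have hx' : g * C.x * g⁻¹ ∈ Subgroup.zpowers C.x :=
      (Subgroup.mem_normalizer_iff.mp hg C.x).mp (Subgroup.mem_zpowers _)
    obtain ⟨k, hk⟩ := Submonoid.mem_powers_iff _ _ |>.mp (mem_powers_iff_mem_zpowers.mpr hx')
    rw [← Nat.mod_add_div k 3, pow_add, pow_mul, hpow, one_pow, mul_one] at hk
    rcases (by omega : k % 3 = 0 ∨ k % 3 = 1 ∨ k % 3 = 2) with q | q | q <;> rw [q] at hk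
    · rw [pow_zero] at hk
      have : C.x = 1 := by
        rw [show C.x = g⁻¹ * (g * C.x * g⁻¹) * g by group, ← hk]; group
      rw [this, orderOf_one] at hx3
      exact absurd hx3 (by norm_num)
    · rw [pow_one] at hk
      exact h.mem_N_of_commute (mul_inv_eq_iff_eq_mul.mp hk.symm)
    · have hn := h.norm
      simp only [okNorm, Bool.and_eq_true, List.any_eq_true] at hn
      obtain ⟨p, hp, hp2⟩ := hn.1.1.2
      obtain ⟨s, hs, rfl⟩ := List.getElem_of_mem hp
      have hs' : s < C.gensW.length := Nat.eq_of_beq_eq_true hn.1.1.1 ▸ hs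
      rcases h.gen_x hs' with ⟨e, -⟩ | ⟨-, e⟩
      · rw [List.getD_eq_getElem _ _ hs, ← Nat.eq_of_beq_eq_true hp2] at e
        exact absurd e (by norm_num)
      have hc : Commute (C.gen s * g) C.x := by
        have e4 : C.x ^ 4 = C.x := by rw [pow_succ, hpow, one_mul]
        show C.gen s * g * C.x = C.x * (C.gen s * g)
        have e' : g * C.x = C.x ^ 2 * g := by rw [hk]; group
        have es : C.gen s * C.x = C.x ^ 2 * C.gen s := by rw [e, pow_two]
        have es2 : C.gen s * C.x ^ 2 = C.x ^ 4 * C.gen s := by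
          rw [pow_two C.x, ← mul_assoc, es, mul_assoc, es, ← mul_assoc, ← pow_add]
        rw [mul_assoc, e', ← mul_assoc, es2, e4, mul_assoc]
      have := mul_mem (inv_mem (gen_mem_N hs')) (h.mem_N_of_commute hc)
      rwa [inv_mul_cancel_left] at this
  · rintro g (⟨s, hs, rfl⟩ | hg)
    · exact key _ (hgen s hs)
    · exact key _ (by rw [(h.Q_commute g hg).eq, mul_inv_cancel_right]; exact Subgroup.mem_zpowers _)

theorem Checked.normal (h : C.Checked) : (C.Q.subgroupOf C.N).Normal :=
  Subgroup.normal_subgroupOf_of_le_normalizer h.N_normalizes_Q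

end NData

end CfsgLib.CosetEnum.Fi22Three
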