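/-
Every subgroup of order three of the presented Fi22 is conjugate to one of four.
-/
import Cfsg.Agent.Lib.CosetEnum.Fi22Three.Sylow

set_option autoImplicit false
set_option maxRecDepth 1000000

namespace CfsgLib.CosetEnum.Fi22Three

open CfsgLib.CosetEnum

/-- The parent of a node. -/
noncomputable def fpar (i : ℕ) : ℕ := fld (entry forest (nat_lit 32) (nat_lit 32) i) (nat_lit 0) (nat_lit 16)

/-- The label of a node. -/
noncomputable def fsym (i : ℕ) : ℕ := fld (entry forest (nat_lit 32) (nat_lit 32) i) (nat_lit 16) (nat_lit 8)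

/-- The depth of a node. -/
noncomputable def frank (i : ℕ) : ℕ := fld (entry forest (nat_lit 32) (nat_lit 32) i) (nat_lit 24) (nat_lit 8)

/-- The check of one product. -/
noncomputable def okNode (i : ℕ) : Bool :=
  Nat.beq i (nat_lit 0) ||
  base6.any (fun b => !Nat.beq (force (force (pev 9 i b) (pev 9 i)) (pev 9 i)) b) ||
  force (fpar i) (fun j => force (fsym i) fun s =>
    roots.any (fun r => Nat.beq r i) ||
    (Nat.blt j (nat_lit 19683) && Nat.blt (frank j) (frank i) &&
      ((Nat.beq s (nat_lit 255) && base6.all fun b => Nat.beq (pev 9 j (pev 9 j b)) (pev 9 i b)) ||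
       (Nat.blt s conjW.length && base6.all fun b =>
          Nat.beq (runT Fi3510.table 9 (conjW.getD s []).reverse (pev 9 j b))
            (pev 9 i (runT Fi3510.table 9 (conjW.getD s []).reverse b))))))

theorem node0_ok : allN 5000 okNode = true := by decide +kernel
theorem node1_ok : allN 5000 (fun i => force (Nat.add 5000 i) okNode) = true := by decide +kernel
theorem node2_ok : allN 5000 (fun i => force (Nat.add 10000 i) okNode) = true := by decide +kernel
theorem node3_ok : allN 4683 (fun i => force (Nat.add 15000 i) okNode) = true := by decide +kernel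

theorem node_ok (i : ℕ) (hi : i < 19683) : okNode i = true := by
  rcases Nat.lt_or_ge i 5000 with h | h
  · exact allN_spec node0_ok i h
  rcases Nat.lt_or_ge i 10000 with h' | h'
  · have := allN_spec node1_ok (i - 5000) (by omega)
    rwa [force_eq, show Nat.add 5000 (i - 5000) = i by show 5000 + (i - 5000) = i; omega] at this
  rcases Nat.lt_or_ge i 15000 with h'' | h''
  · have := allN_spec node2_ok (i - 10000) (by omega)
    rwa [force_eq, show Nat.add 10000 (i - 10000) = i by show 10000 + (i - 10000) = i; omega] at this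
  · have := allN_spec node3_ok (i - 15000) (by omega)
    rwa [force_eq, show Nat.add 15000 (i - 15000) = i by show 15000 + (i - 15000) = i; omega] at this

theorem conjW_lt : ∀ s < conjW.length, ∀ x ∈ conjW.getD s [], x < 9 := by decide +kernel

theorem zpowers_sq {G : Type*} [Group G] {x : G} (h : x ^ 3 = 1) : Subgroup.zpowers (x * x) = Subgroup.zpowers x := by
  refine le_antisymm (Subgroup.zpowers_le.mpr (mul_mem (Subgroup.mem_zpowers x) (Subgroup.mem_zpowers x)))
    (Subgroup.zpowers_le.mpr ?_)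
  have e : (x * x) * (x * x) = x := by
    rw [show (x * x) * (x * x) = x ^ 3 * x by simp [pow_succ, mul_assoc], h, one_mul]
  exact (congrArg (fun y => y ∈ Subgroup.zpowers (x * x)) e).mp
    (mul_mem (Subgroup.mem_zpowers _) (Subgroup.mem_zpowers _))

theorem product_class (n : ℕ) : ∀ i < 19683, frank i = n → orderOf (Pel 9 i) = 3 →
    ∃ r ∈ roots, ∃ g : K, Subgroup.zpowers (g * Pel 9 i * g⁻¹) = Subgroup.zpowers (Pel 9 r) := by
  induction n using Nat.strong_induction_on with
  | _ n ih =>
    intro i hi hn h3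
    have h := node_ok i hi
    simp only [okNode, Bool.or_eq_true, force_eq] at h
    have hp3 : Pel 9 i ^ 3 = 1 := by rw [← h3]; exact pow_orderOf_eq_one _
    rcases h with (h | h) | h
    · rw [Nat.eq_of_beq_eq_true h, Pel_zero, orderOf_one] at h3
      exact absurd h3 (by norm_num)
    · obtain ⟨b, hb, hne⟩ := List.any_eq_true.mp h
      have hb' := base6_lt b hb
      have e : ∀ d < 3510, pev 9 i d < 3510 := fun d hd => act_Pel 9 le_rfl i hd ▸ act_lt _ hd
      rw [← act_Pel 9 le_rfl i hb', ← act_Pel 9 le_rfl i (act_lt _ hb'),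
        ← act_Pel 9 le_rfl i (act_lt _ (act_lt _ hb')), ← act_mul, ← act_mul,
        show Pel 9 i * Pel 9 i * Pel 9 i = Pel 9 i ^ 3 by simp [pow_succ], hp3, act_one] at hne
      simp at hne
    rcases h with h | h
    · obtain ⟨r, hr, e⟩ := List.any_eq_true.mp h
      exact ⟨r, hr, 1, by rw [Nat.eq_of_beq_eq_true e]; simp⟩
    simp only [Bool.and_eq_true, Bool.or_eq_true, blt_iff, List.all_eq_true] at h
    obtain ⟨⟨hj, hlt⟩, h⟩ := h
    set j := fpar i
    rcases h with ⟨-, hsq⟩ | ⟨hs, hcj⟩
    · have e : Pel 9 j * Pel 9 j = Pel 9 i := ext6 fun b hb => by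
        have hb' := base6_lt b hb
        rw [act_mul, act_Pel 9 le_rfl j hb', act_Pel 9 le_rfl j (act_Pel 9 le_rfl j hb' ▸ act_lt _ hb'),
          act_Pel 9 le_rfl i hb']
        exact Nat.eq_of_beq_eq_true (hsq b hb)
      have hj1 : Pel 9 j ≠ 1 := fun q => by
        rw [← e, q, one_mul, orderOf_one] at h3
        exact absurd h3 (by norm_num)
      have hj27 : Pel 9 j ∈ (S3 : Subgroup K) := Pel_mem 9 j
      obtain ⟨k, hk⟩ := IsPGroup.iff_orderOf.mp S3.2 ⟨_, hj27⟩
      rw [Subgroup.orderOf_mk] at hk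
      have hcop : Nat.Coprime (orderOf (Pel 9 j)) 2 := by
        rw [hk]; exact Nat.Coprime.pow_left _ (by norm_num)
      have hj3 : orderOf (Pel 9 j) = 3 := by
        rw [← h3, ← e, ← pow_two, Nat.Coprime.orderOf_pow hcop]
      obtain ⟨r, hr, g, hg⟩ := ih _ (hn ▸ hlt) j hj rfl hj3
      refine ⟨r, hr, g, ?_⟩
      have h33 : (g * Pel 9 j * g⁻¹) ^ 3 = 1 := by
        rw [conj_pow, ← hj3, pow_orderOf_eq_one, mul_one, mul_inv_cancel]
      rw [← e, ← hg, ← zpowers_sq h33]
      congr 1
      group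
    · set w := conjW.getD (fsym i) []
      have hw : ∀ x ∈ w, x < 9 := conjW_lt _ hs
      have e : el w * Pel 9 j = Pel 9 i * el w := ext6 fun b hb => by
        have hb' := base6_lt b hb
        rw [act_mul, act_mul, act_Pel 9 le_rfl j hb', act_el w hw (act_Pel 9 le_rfl j hb' ▸ act_lt _ hb'),
          act_el w hw hb', act_Pel 9 le_rfl i (act_el w hw hb' ▸ act_lt _ hb')]
        exact Nat.eq_of_beq_eq_true (hcj b hb)
      have ei : Pel 9 i = el w * Pel 9 j * (el w)⁻¹ := by rw [e, mul_inv_cancel_right]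
      have hj3 : orderOf (Pel 9 j) = 3 := by
        rw [← h3, ei, ← MulAut.conj_apply, MulEquiv.orderOf_eq]
      obtain ⟨r, hr, g, hg⟩ := ih _ (hn ▸ hlt) j hj rfl hj3
      refine ⟨r, hr, g * (el w)⁻¹, ?_⟩
      rw [← hg, ei]
      congr 1
      group

/-- Every subgroup of order three is conjugate to one of four. -/
theorem class_cases {Y : Subgroup K} (hY : Nat.card Y = 3) :
    ∃ r ∈ roots, ∃ g : K, Y.map (MulAut.conj g).toMonoidHom = Subgroup.zpowers (Pel 9 r) := by
  have := finiteK
  obtain ⟨P, hP⟩ := (IsPGroup.of_card (n := 1) (by rw [hY, pow_one])).exists_le_sylow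
  obtain ⟨c, hc⟩ := MulAction.exists_smul_eq K P S3
  obtain ⟨y, hy⟩ := (isCyclic_iff_exists_zpowers_eq_top (α := Y)).mp (isCyclic_of_prime_card (p := 3) hY)
  have hy3 : orderOf (y : K) = 3 := by
    rw [Subgroup.orderOf_coe, ← Nat.card_zpowers, hy, Subgroup.card_top, hY]
  have hYe : Y = Subgroup.zpowers (y : K) := by
    have := congrArg (Subgroup.map Y.subtype) hy
    rw [MonoidHom.map_zpowers, ← MonoidHom.range_eq_map, Subgroup.range_subtype] at this
    exact this.symm
  have hcy : c * (y : K) * c⁻¹ ∈ (S3 : Subgroup K) := by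
    rw [← hc]
    exact ⟨y, hP y.2, rfl⟩
  obtain ⟨i, hi, e⟩ := mem_S3.mp hcy
  have h3 : orderOf (Pel 9 i) = 3 := by rw [e, ← MulAut.conj_apply, MulEquiv.orderOf_eq, hy3]
  obtain ⟨r, hr, g, hg⟩ := product_class _ i hi rfl h3
  refine ⟨r, hr, g * c, ?_⟩
  rw [hYe, MonoidHom.map_zpowers, ← hg, e]
  congr 1
  simp only [MulEquiv.coe_toMonoidHom, MulAut.conj_apply]
  group

end CfsgLib.CosetEnum.Fi22Three
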