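/-
The action of a group on an elementary abelian section.
-/
import Mathlib

set_option autoImplicit false

namespace CfsgLib.CosetEnum.Fi22Three

/-- Coordinates on a subgroup whose kernel is invariant. -/
structure Coord {G : Type*} [Group G] (N A : Subgroup G) (ι : Type) where
  /-- the coordinates -/
  c : A → (ι → ZMod 3)
  c_mul : ∀ a b, c (a * b) = c a + c b
  /-- a section -/
  sec : (ι → ZMod 3) → A
  c_sec : ∀ v, c (sec v) = v
  norm : ∀ n ∈ N, ∀ a ∈ A, n * a * n⁻¹ ∈ A
  ker : ∀ (n : G) (hn : n ∈ N) (a : A), c a = 0 → c ⟨n * a * n⁻¹, norm n hn a a.2⟩ = 0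

namespace Coord

variable {G : Type*} [Group G] {N A : Subgroup G} {ι : Type} [Fintype ι] [DecidableEq ι] (S : Coord N A ι)

/-- Conjugation. -/
def cj (n : N) (a : A) : A := ⟨n * a * (n : G)⁻¹, S.norm n n.2 a a.2⟩

omit [Fintype ι] [DecidableEq ι] in
theorem c_one : S.c 1 = 0 := by
  have := S.c_mul 1 1
  rw [mul_one] at this
  exact left_eq_add.mp this

omit [Fintype ι] [DecidableEq ι] in
theorem cj_mul (n : N) (a b : A) : S.cj n (a * b) = S.cj n a * S.cj n b := Subtype.ext (by simp [cj, mul_assoc])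

omit [Fintype ι] [DecidableEq ι] in
theorem c_cj (n : N) (a : A) : S.c (S.cj n a) = S.c (S.cj n (S.sec (S.c a))) := by
  set b := S.sec (S.c a)
  have hd : S.c (b⁻¹ * a) = 0 := by
    have e := S.c_mul b (b⁻¹ * a)
    rw [mul_inv_cancel_left, S.c_sec] at e
    exact left_eq_add.mp e
  have hk : S.c (S.cj n (b⁻¹ * a)) = 0 := S.ker n n.2 _ hd
  conv_lhs => rw [show a = b * (b⁻¹ * a) by group, cj_mul, S.c_mul, hk, add_zero]

/-- The linear action. -/
noncomputable def lin (n : N) : (ι → ZMod 3) →ₗ[ZMod 3] (ι → ZMod 3) :=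
  AddMonoidHom.toZModLinearMap 3 (AddMonoidHom.mk' (fun v => S.c (S.cj n (S.sec v))) fun u v => by
    have h : S.c (S.sec u * S.sec v) = u + v := by rw [S.c_mul, S.c_sec, S.c_sec]
    rw [← S.c_mul, ← cj_mul, S.c_cj n (S.sec u * S.sec v), h])

omit [Fintype ι] [DecidableEq ι] in
theorem lin_c (n : N) (a : A) : S.lin n (S.c a) = S.c (S.cj n a) := (S.c_cj n a).symm

/-- The representation by matrices. -/
noncomputable def rep : N →* Matrix.GeneralLinearGroup ι (ZMod 3) :=
  MonoidHom.toHomUnits
    { toFun := fun n => LinearMap.toMatrixAlgEquiv' (S.lin n)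
      map_one' := by
        rw [show S.lin 1 = 1 from LinearMap.ext fun v => by
          have e : S.cj 1 (S.sec v) = S.sec v := Subtype.ext (by simp [cj])
          show S.c (S.cj 1 (S.sec v)) = v
          rw [e, S.c_sec]]
        exact map_one _
      map_mul' := fun n m => by
        rw [show S.lin (n * m) = S.lin n * S.lin m from LinearMap.ext fun v => by
          have e : S.cj (n * m) (S.sec v) = S.cj n (S.cj m (S.sec v)) := Subtype.ext (by simp [cj, mul_assoc])
          show S.c (S.cj (n * m) (S.sec v)) = S.lin n (S.c (S.cj m (S.sec v)))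
          rw [e, S.lin_c]]
        exact map_mul _ _ _ }

theorem rep_mulVec (n : N) (a : A) :
    Matrix.mulVec (↑(S.rep n) : Matrix ι ι (ZMod 3)) (S.c a) = S.c (S.cj n a) := by
  rw [← S.lin_c]
  show Matrix.mulVec (LinearMap.toMatrix' (S.lin n)) (S.c a) = _
  rw [LinearMap.toMatrix'_mulVec]

theorem rep_eq_one_iff (n : N) : S.rep n = 1 ↔ ∀ a, S.c (S.cj n a) = S.c a := by
  constructor
  · intro h a
    rw [← S.rep_mulVec, h, Units.val_one, Matrix.one_mulVec]
  · intro h
    refine Units.ext (Matrix.ext_of_mulVec_single fun i => ?_)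
    rw [Units.val_one, Matrix.one_mulVec, ← S.c_sec (Pi.single i 1), S.rep_mulVec, h]

end Coord

end CfsgLib.CosetEnum.Fi22Three
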