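/-
The largest commuting sets of transpositions centralising the four elements of order three.
-/
import Cfsg.Agent.Lib.CosetEnum.Fi22Three.Classes
import Cfsg.Agent.Lib.CosetEnum.Fi22Three.Points
import Cfsg.Agent.Lib.CosetEnum.Fi22Three.WidthData
import Cfsg.Prelude.Def_FischerSpaces

set_option autoImplicit false
set_option maxRecDepth 1000000

namespace CfsgLib.CosetEnum.Fi22Three

open CfsgLib.CosetEnum

/-- The fixed points of a root. -/
noncomputable def fp (k : ℕ) : List ℕ := fixPts.getD k []

/-- The position pattern: the member `j` commutes with the member `i`. -/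
noncomputable def padj (k i j : ℕ) : Bool := Nat.testBit ((fixRows.getD k []).getD i 0) j

/-- A fixed point is in the list. -/
noncomputable def okFix (k d : ℕ) : Bool :=
  !(Nat.beq (pev 9 (roots.getD k 0) d) d) || (fp k).any (Nat.beq d)

/-- The pattern of one fixed point is right. -/
noncomputable def okRowW (k i : ℕ) : Bool :=
  force ((fp k).getD i 0) fun d => Nat.blt d 3510 && Nat.beq (pev 9 (roots.getD k 0) d) d &&
    ((fixWords.getD k []).getD i []).all (fun x => Nat.blt x 9) &&
    Nat.beq (runT Fi3510.table 9 ((fixWords.getD k []).getD i []) d) 0 &&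
    allN (fp k).length fun j =>
      force (runT Fi3510.table 9 ((fixWords.getD k []).getD i []) ((fp k).getD j 0)) fun q =>
        (Nat.beq (Fi22Class.zf q) q == padj k i j)

/-- There is no set of the given size in a list with all pairs in the relation. -/
noncomputable def noClique (r : ℕ → ℕ → Bool) (n : ℕ) : List ℕ → Bool :=
  Nat.rec (fun _ => false)
    (fun _ ih L => List.rec (motive := fun _ => Bool) true (fun v rest acc => ih (rest.filter (r v)) && acc) L) n

theorem noClique_sound (r : ℕ → ℕ → Bool) : ∀ (n : ℕ) (L : List ℕ), noClique r n L = true →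
    ∀ s : Finset ℕ, (∀ x ∈ s, x ∈ L) → (∀ x ∈ s, ∀ y ∈ s, r x y = true) → s.card < n := by
  intro n
  induction n with
  | zero => intro L h; cases L <;> exact absurd h (by simp [noClique])
  | succ n ih =>
    intro L
    induction L with
    | nil =>
      intro _ s hs _
      rw [Finset.eq_empty_of_forall_notMem fun x hx => List.not_mem_nil (hs x hx)]
      simp
    | cons v rest ihr =>
      intro h s hs hr
      have h' : noClique r n (rest.filter (r v)) = true ∧ noClique r (n + 1) rest = true := Bool.and_eq_true_iff.mp h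
      by_cases hv : v ∈ s
      · have := ih _ h'.1 (s.erase v) (fun x hx => List.mem_filter.mpr
          ⟨(List.mem_cons.mp (hs x (Finset.mem_of_mem_erase hx))).resolve_left (Finset.ne_of_mem_erase hx),
            hr v hv x (Finset.mem_of_mem_erase hx)⟩)
          fun x hx y hy => hr x (Finset.mem_of_mem_erase hx) y (Finset.mem_of_mem_erase hy)
        rw [Finset.card_erase_of_mem hv] at this
        omega
      · exact ihr h'.2 s (fun x hx => (List.mem_cons.mp (hs x hx)).resolve_left fun e => hv (e ▸ hx)) hr

/-- The width of a root. -/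
def wid : List ℕ := [6, 4, 3, 0]

/-- The check of a root. -/
noncomputable def okWidth (k : ℕ) : Bool :=
  allN (fp k).length (okRowW k) && noClique (padj k) (wid.getD k 0 + 1) (List.range (fp k).length) &&
    Nat.beq (fixCliques.getD k []).length (wid.getD k 0) &&
    (fixCliques.getD k []).all fun i => Nat.blt i (fp k).length &&
      (fixCliques.getD k []).all fun j => padj k i j && (Nat.beq i j || !Nat.beq ((fp k).getD i 0) ((fp k).getD j 0))

theorem fix_ok : allN 3510 (fun d => allN 4 fun k => okFix k d) = true := by decide +kernel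
theorem width_ok : allN 4 okWidth = true := by decide +kernel
theorem cliques_nodup : ∀ k < 4, (fixCliques.getD k []).Nodup := by decide +kernel

/-- The width of the transpositions centralising a root. -/
theorem width_root {k : ℕ} (hk : k < 4) : Cfsg.commutingWidth (conjugatesOf ta ∩
    (Subgroup.centralizer ((Subgroup.zpowers (Pel 9 (roots.getD k 0)) : Subgroup K) : Set K) : Set K)) =
      wid.getD k 0 := by
  classical
  set p := Pel 9 (roots.getD k 0)
  set S : Set K := conjugatesOf ta ∩ (Subgroup.centralizer ((Subgroup.zpowers p : Subgroup K) : Set K) : Set K)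
  have h := allN_spec width_ok k hk
  simp only [okWidth, Bool.and_eq_true, List.all_eq_true, blt_iff] at h
  obtain ⟨⟨⟨hrow, hno⟩, hlen⟩, hcl⟩ := h
  have hF : ∀ i < (fp k).length, (fp k).getD i 0 < 3510 ∧ act p ((fp k).getD i 0) = (fp k).getD i 0 ∧
      ∀ j < (fp k).length, (Commute (dt ((fp k).getD i 0)) (dt ((fp k).getD j 0)) ↔ padj k i j = true) := by
    intro i hi
    have h := allN_spec hrow i hi
    simp only [okRowW, force_eq, Bool.and_eq_true, blt_iff, List.all_eq_true] at h
    obtain ⟨⟨⟨⟨hd, hfix⟩, hw⟩, hwd⟩, hj⟩ := h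
    refine ⟨hd, by rw [act_Pel 9 le_rfl _ hd]; exact Nat.eq_of_beq_eq_true hfix, fun j hj' => ?_⟩
    have hjd : (fp k).getD j 0 < 3510 := by
      have := allN_spec hrow j hj'
      simp only [okRowW, force_eq, Bool.and_eq_true, blt_iff] at this
      exact this.1.1.1.1
    rw [act_dt hd hjd _ hw (Nat.eq_of_beq_eq_true hwd)]
    have := eq_of_beq (allN_spec hj j hj')
    constructor
    · intro q; rw [← this, q]; exact Nat.beq_refl _
    · intro q; rw [q] at this; exact Nat.eq_of_beq_eq_true this
  have hmem : ∀ d < 3510, (dt d ∈ S ↔ act p d = d) := fun d hd => by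
    refine ⟨fun q => ?_, fun q => ⟨dt_mem d, ?_⟩⟩
    · exact (commute_dt hd).mp (Subgroup.mem_centralizer_iff.mp q.2 p (Subgroup.mem_zpowers p))
    · refine Subgroup.mem_centralizer_iff.mpr fun y hy => ?_
      obtain ⟨z, rfl⟩ := Subgroup.mem_zpowers_iff.mp hy
      exact ((commute_dt hd).mpr q).zpow_left z
  refine IsGreatest.csSup_eq ⟨?_, ?_⟩
  · refine ⟨(fun i => dt ((fp k).getD i 0)) '' {i | i ∈ fixCliques.getD k []}, ?_,
      (List.finite_toSet _).image _, ?_, ?_⟩
    · rintro _ ⟨i, hi, rfl⟩
      exact (hmem _ (hF i (hcl i hi).1).1).mpr (hF i (hcl i hi).1).2.1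
    · rintro _ ⟨i, hi, rfl⟩ _ ⟨j, hj, rfl⟩
      exact ((hF i (hcl i hi).1).2.2 j (hcl j hj).1).mpr ((hcl i hi).2 j hj).1
    · have hinj : Set.InjOn (fun i => dt ((fp k).getD i 0)) {i | i ∈ fixCliques.getD k []} := fun i hi j hj e => by
        have e' := dt_injective (hF i (hcl i hi).1).1 (hF j (hcl j hj).1).1 e
        have := ((hcl i hi).2 j hj).2
        rcases Bool.or_eq_true_iff.mp this with q | q
        · exact Nat.eq_of_beq_eq_true q
        · rw [e'] at q; simp at q
      rw [Set.ncard_image_of_injOn hinj]
      have hset : {i | i ∈ fixCliques.getD k []} = ((fixCliques.getD k []).toFinset : Set ℕ) := by ext; simp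
      rw [hset, Set.ncard_coe_finset, List.toFinset_card_of_nodup (cliques_nodup k hk)]
      exact Nat.eq_of_beq_eq_true hlen
  · rintro n ⟨E, hE, hfin, hcom, rfl⟩
    have hpos : ∀ x ∈ E, ∃ i < (fp k).length, dt ((fp k).getD i 0) = x := by
      intro x hx
      obtain ⟨d, hd, rfl⟩ := exists_dt (hE hx).1
      have hfd := (hmem d hd).mp (hE hx)
      have := allN_spec (allN_spec fix_ok d hd) k hk
      simp only [okFix, ← act_Pel 9 le_rfl _ hd, Bool.or_eq_true] at this
      rcases this with q | q
      · exfalso
        rw [show act (Pel 9 (roots.getD k 0)) d = d from hfd] at q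
        simp at q
      · obtain ⟨e, he, he'⟩ := List.any_eq_true.mp q
        obtain ⟨i, hi, rfl⟩ := List.getElem_of_mem he
        exact ⟨i, hi, by rw [List.getD_eq_getElem _ _ hi, Nat.eq_of_beq_eq_true he']⟩
    choose! f hf1 hf2 using hpos
    have hfi : Set.InjOn f E := fun x hx y hy e => by rw [← hf2 x hx, ← hf2 y hy, e]
    have := noClique_sound (padj k) _ _ hno ((hfin.image f).toFinset) (fun i hi => by
      obtain ⟨x, hx, rfl⟩ := (Set.Finite.mem_toFinset _).mp hi
      exact List.mem_range.mpr (hf1 x hx)) (fun i hi j hj => by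
      obtain ⟨x, hx, rfl⟩ := (Set.Finite.mem_toFinset _).mp hi
      obtain ⟨y, hy, rfl⟩ := (Set.Finite.mem_toFinset _).mp hj
      exact ((hF _ (hf1 x hx)).2.2 _ (hf1 y hy)).mp (by rw [hf2 x hx, hf2 y hy]; exact hcom x hx y hy))
    rw [← Set.ncard_eq_toFinset_card _ (hfin.image f), Set.ncard_image_of_injOn hfi] at this
    omega

end CfsgLib.CosetEnum.Fi22Three
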