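/-
The data of the normalizer of the subgroup of order three of the product with index 1.
-/
import Cfsg.Agent.Lib.CosetEnum.Fi22Three.Model
import Cfsg.Agent.Lib.CosetEnum.Fi22Three.OneData

set_option autoImplicit false
set_option maxRecDepth 1000000

namespace CfsgLib.CosetEnum.Fi22Three.One

open CfsgLib.CosetEnum CfsgLib.CosetEnum.Fi22Three

/-- The data. -/
noncomputable def C : NData where
  root := root
  fixM := fixM
  gensW := gensW
  gensT := gensT
  gensP := gensP
  cosets := cosets
  qIdx := qIdx
  qN := qN
  qGen := qGen
  qMul := qMul
  qConj := qConj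
  ctab := ctab
  levels := levels
  nodes := nodes


end CfsgLib.CosetEnum.Fi22Three.One
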