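/-
Checks of the data of the normalizer of the subgroup of order three of the product with index 1.
-/
import Cfsg.Agent.Lib.CosetEnum.Fi22Three.OneBase

set_option autoImplicit false
set_option maxRecDepth 1000000

namespace CfsgLib.CosetEnum.Fi22Three.One

open CfsgLib.CosetEnum CfsgLib.CosetEnum.Fi22Three

theorem ct0_ok : allN 2304 (C.okCt 0) = true := by decide +kernel

end CfsgLib.CosetEnum.Fi22Three.One
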