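/-
Checks of the data of the normalizer of the subgroup of order three of the product with index 1.
-/
import Cfsg.Agent.Lib.CosetEnum.Fi22Three.OneCheck0
import Cfsg.Agent.Lib.CosetEnum.Fi22Three.OneCheck1
import Cfsg.Agent.Lib.CosetEnum.Fi22Three.OneCheck2
import Cfsg.Agent.Lib.CosetEnum.Fi22Three.OneCheck3

set_option autoImplicit false
set_option maxRecDepth 1000000

namespace CfsgLib.CosetEnum.Fi22Three.One

open CfsgLib.CosetEnum CfsgLib.CosetEnum.Fi22Three

theorem gens_ok : C.okGens = true := by decide +kernel
theorem cosets_ok : C.okCosets = true := by decide +kernel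
theorem fixed_ok : okFixM C.root C.fixM = true := by decide +kernel
theorem q_ok : C.okQ = true := by decide +kernel
theorem norm_ok : C.okNorm = true := by decide +kernel
theorem levels_ok : C.okLevels C.levels [] = true := by decide +kernel
theorem order_ok : C.okOrder = true := by decide +kernel

end CfsgLib.CosetEnum.Fi22Three.One
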