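/-
The certified normalizer of the subgroup of order three of the product with index 1.
-/
import Cfsg.Agent.Lib.CosetEnum.Fi22Three.OneChecks

set_option autoImplicit false
set_option maxRecDepth 1000000

namespace CfsgLib.CosetEnum.Fi22Three.One

open CfsgLib.CosetEnum CfsgLib.CosetEnum.Fi22Three

theorem checked : C.Checked where
  gens := gens_ok
  cosets := cosets_ok
  first := by decide +kernel
  fixed := fixed_ok
  q := q_ok
  norm := norm_ok
  ctab := fun s (hs : s < 4) i hi => by
    interval_cases s
    exacts [allN_spec ct0_ok i hi, allN_spec ct1_ok i hi, allN_spec ct2_ok i hi, allN_spec ct3_ok i hi]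
  levels := levels_ok

theorem order_x : orderOf C.x = 3 := C.order_x order_ok

/-- The normalizer. -/
theorem normalizer_eq : Subgroup.normalizer ((Subgroup.zpowers C.x : Subgroup K) : Set K) = C.N :=
  checked.normalizer_eq order_x

end CfsgLib.CosetEnum.Fi22Three.One
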