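/-
The normalizer of the central subgroup of order three: its normal extraspecial subgroup of order 3^7.
-/
import Cfsg.Agent.Lib.CosetEnum.Fi22Three.One
import Cfsg.Agent.Lib.Comp.Layer
import Cfsg.Agent.Lib.RankFrattini
import Cfsg.Agent.Lib.Elementary
import Cfsg.Prelude.Def_Transfer

set_option autoImplicit false
set_option maxRecDepth 100000

namespace CfsgLib.CosetEnum.Fi22Three.One

open Cfsg CfsgLib.CosetEnum CfsgLib.CosetEnum.Fi22Three
open scoped commutatorElement

/-- The subgroup of order three. -/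
noncomputable def Z : Subgroup K := Subgroup.zpowers C.x

/-- The generators of the normal subgroup commute up to the centre. -/
noncomputable def okComm : Bool :=
  C.qGen.all fun a => C.qGen.all fun b => (List.range 3).any fun e => base6.all fun p =>
    Nat.beq (force (pev 9 b p) (pev 9 a)) (force (force (pev 9 e p) (pev 9 a)) (pev 9 b))

/-- The cubes lie in the centre. -/
noncomputable def okCube : Bool :=
  allN C.qN fun t => (List.range 3).any fun e => base6.all fun p =>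
    Nat.beq (force (force (C.qev t p) (C.qev t)) (C.qev t)) (pev 9 e p)

/-- A member outside the centre fails to commute with a generator. -/
noncomputable def okNoncentral : Bool :=
  allN C.qN fun t => Nat.blt (C.qi t) 3 || C.qGen.any fun a => base6.any fun p =>
    !Nat.beq (force (pev 9 a p) (C.qev t)) (force (C.qev t p) (pev 9 a))

/-- A coset other than the first one moves a generator off its class modulo the centre. -/
noncomputable def okOuter (i : ℕ) : Bool :=
  Nat.beq i 0 || C.qGen.any fun a => allN 3 fun e => base6.any fun p =>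
    !Nat.beq (force (pev 9 a p) (C.cev i)) (force (force (C.cev i p) (pev 9 e)) (pev 9 a))

/-- Elements of the Sylow subgroup outside the normal subgroup with products of two conjugates of other orders. -/
def outside : List (ℕ × ℕ × ℕ × ℕ × ℕ) :=
  [(6561, 3, 0, 2, 1), (13122, 3, 1, 6, 3), (81, 3, 0, 4, 1), (6642, 3, 0, 12, 3), (13203, 3, 0, 2, 1), (162, 3, 0, 4, 1),
    (6723, 3, 0, 4, 1), (13284, 3, 0, 12, 3)]

/-- The image of a point under the product `u r u⁻¹ r`, computed by the transported point. -/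
noncomputable def hev (r i : ℕ) (d : ℕ) : ℕ :=
  force (pev 9 r d) fun a => force (runT Fi3510.table 9 ((C.cosets.getD i []).flatMap fun s => C.gensW.getD s []) a) fun b =>
    force (pev 9 r b) (C.cev i)

/-- The check of one element outside. -/
noncomputable def okOutside (q : ℕ × ℕ × ℕ × ℕ × ℕ) : Bool :=
  Nat.blt q.2.1 C.cosets.length && Nat.blt q.2.2.1 3510 &&
    Nat.beq (Nat.rec q.2.2.1 (fun _ a => force a (hev q.1 q.2.1)) q.2.2.2.1) q.2.2.1 &&
    !Nat.beq (Nat.rec q.2.2.1 (fun _ a => force a (hev q.1 q.2.1)) q.2.2.2.2) q.2.2.1 &&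
    Nat.beq (Nat.gcd (3 ^ 9) q.2.2.2.1) q.2.2.2.2

/-- The Sylow subgroup centralises the element. -/
noncomputable def okS3 : Bool :=
  allN 9 fun j => base6.all fun p => Nat.beq (force (pev 9 C.root p) (tperm j)) (force (tperm j p) (pev 9 C.root))

theorem comm_ok : okComm = true := by decide +kernel
theorem cube_ok : okCube = true := by decide +kernel
theorem noncentral_ok : okNoncentral = true := by decide +kernel
theorem outer_ok : allN 2304 okOuter = true := by decide +kernel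
theorem outside_ok : outside.all okOutside = true := by decide +kernel
theorem s3_ok : okS3 = true := by decide +kernel

theorem Pel_small : ∀ e < 3, Pel 9 e = C.x ^ e := by
  intro e he
  have h : ∀ e < 3, Pel 9 e = X 0 ^ e := by
    intro e he
    show X 8 ^ digit e 8 * (X 7 ^ digit e 7 * (X 6 ^ digit e 6 * (X 5 ^ digit e 5 * (X 4 ^ digit e 4 *
      (X 3 ^ digit e 3 * (X 2 ^ digit e 2 * (X 1 ^ digit e 1 * (X 0 ^ digit e 0 * 1)))))))) = _
    have hd : ∀ j < 9, digit e j = if j = 0 then e else 0 := by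
      interval_cases e <;> decide +kernel
    rw [hd 0, hd 1, hd 2, hd 3, hd 4, hd 5, hd 6, hd 7, hd 8] <;> simp
  rw [h e he, show C.x = X 0 from (h 1 (by norm_num)).trans (pow_one _)]

theorem Z_le_Q : Z ≤ C.Q := Subgroup.zpowers_le.mpr checked.x_mem

theorem Q_le_centralizer : C.Q ≤ Subgroup.centralizer ({C.x} : Set K) :=
  fun q hq => Subgroup.mem_centralizer_singleton_iff.mpr (checked.Q_commute q hq).eq

theorem comm_Z {z q : K} (hz : z ∈ Z) (hq : q ∈ C.Q) : Commute q z := by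
  obtain ⟨n, rfl⟩ := Subgroup.mem_zpowers_iff.mp hz
  exact (checked.Q_commute q hq).zpow_right n

theorem commutator_mem {p q : K} (hp : p ∈ C.Q) (hq : q ∈ C.Q) : ⁅p, q⁆ ∈ Z := by
  have := finiteK
  have key : ∀ q ∈ C.Q, (∀ a ∈ C.qGen, ⁅Pel 9 a, q⁆ ∈ Z) → ∀ p ∈ C.Q, ⁅p, q⁆ ∈ Z := by
    intro q hq h p hp
    induction hp using Subgroup.closure_induction with
    | mem g hg => obtain ⟨a, ha, rfl⟩ := hg; exact h a ha
    | one => simp
    | mul a b ha hb iha ihb =>
      have e : ⁅a * b, q⁆ = a * ⁅b, q⁆ * a⁻¹ * ⁅a, q⁆ := by simp only [commutatorElement_def]; group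
      rw [e, (comm_Z ihb ha).eq, mul_inv_cancel_right]
      exact mul_mem ihb iha
    | inv a ha iha =>
      have e : ⁅a⁻¹, q⁆ = a⁻¹ * ⁅a, q⁆⁻¹ * a := by simp only [commutatorElement_def]; group
      rw [e, (comm_Z (inv_mem iha) (inv_mem ha)).eq, inv_mul_cancel_right]
      exact inv_mem iha
  refine key q hq (fun a ha => ?_) p hp
  have hPa : Pel 9 a ∈ C.Q := Subgroup.subset_closure ⟨a, ha, rfl⟩
  rw [← commutatorElement_inv]
  refine inv_mem (key _ hPa (fun b hb => ?_) q hq)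
  have h := comm_ok
  simp only [okComm, List.all_eq_true, List.any_eq_true, List.mem_range] at h
  obtain ⟨e, he, heq⟩ := h b hb a ha
  have e1 : Pel 9 b * Pel 9 a = Pel 9 a * (Pel 9 b * Pel 9 e) → ⁅Pel 9 b, Pel 9 a⁆ ∈ Z := by
    intro h
    have hZe : Pel 9 e ∈ Z := by rw [Pel_small e he]; exact pow_mem (Subgroup.mem_zpowers _) e
    rw [commutatorElement_def, h, (comm_Z hZe (Subgroup.subset_closure ⟨b, hb, rfl⟩)).eq]
    have : Pel 9 a * (Pel 9 e * Pel 9 b) * (Pel 9 b)⁻¹ * (Pel 9 a)⁻¹ = Pel 9 a * Pel 9 e * (Pel 9 a)⁻¹ := by group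
    rw [this, (comm_Z hZe hPa).eq, mul_inv_cancel_right]
    exact hZe
  refine e1 (ext6 fun p hp => ?_)
  have hp' := base6_lt p hp
  have he' := heq p hp
  simp only [force_eq] at he'
  rw [act_mul, act_Pel 9 le_rfl a hp', act_Pel 9 le_rfl b (act_Pel 9 le_rfl a hp' ▸ act_lt _ hp'), act_mul, act_mul,
    act_Pel 9 le_rfl e hp', act_Pel 9 le_rfl b (act_Pel 9 le_rfl e hp' ▸ act_lt _ hp'),
    act_Pel 9 le_rfl a (by rw [← act_Pel 9 le_rfl e hp', ← act_Pel 9 le_rfl b (act_lt _ hp')]; exact act_lt _ (act_lt _ hp'))]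
  exact Nat.eq_of_beq_eq_true he'

theorem cube_mem {q : K} (hq : q ∈ C.Q) : q ^ 3 ∈ Z := by
  obtain ⟨t, ht, rfl⟩ := checked.mem_Q.mp hq
  have h := allN_spec cube_ok t ht
  simp only [List.any_eq_true, List.mem_range, List.all_eq_true, force_eq] at h
  obtain ⟨e, he, heq⟩ := h
  have hP : C.qel t ^ 3 = Pel 9 e := ext6 fun p hp => by
    have hp' := base6_lt p hp
    have h1 : C.qev t p < 3510 := C.act_qel t hp' ▸ act_lt _ hp'
    have h2 : C.qev t (C.qev t p) < 3510 := C.act_qel t h1 ▸ act_lt _ h1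
    rw [show C.qel t ^ 3 = C.qel t * C.qel t * C.qel t by simp [pow_succ], act_mul, act_mul, C.act_qel t hp',
      C.act_qel t h1, C.act_qel t h2, act_Pel 9 le_rfl e hp']
    exact Nat.eq_of_beq_eq_true (heq p hp)
  rw [hP, Pel_small e he]
  exact pow_mem (Subgroup.mem_zpowers _) e

theorem central_iff {q : K} (hq : q ∈ C.Q) : (∀ p ∈ C.Q, Commute p q) ↔ q ∈ Z := by
  refine ⟨fun h => ?_, fun h p hp => comm_Z h hp⟩
  obtain ⟨t, ht, rfl⟩ := checked.mem_Q.mp hq
  have h' := allN_spec noncentral_ok t ht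
  simp only [Bool.or_eq_true, blt_iff, List.any_eq_true, force_eq] at h'
  rcases h' with h' | ⟨a, ha, p, hp, hne⟩
  · rw [NData.qel, Pel_small _ h']
    exact pow_mem (Subgroup.mem_zpowers _) _
  · have hp' := base6_lt p hp
    have e := congrArg (fun g => act g p) (h _ (Subgroup.subset_closure ⟨a, ha, rfl⟩)).eq
    simp only [act_mul] at e
    rw [C.act_qel t hp', act_Pel 9 le_rfl a hp', act_Pel 9 le_rfl a (C.act_qel t hp' ▸ act_lt _ hp'),
      C.act_qel t (act_Pel 9 le_rfl a hp' ▸ act_lt _ hp')] at e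
    rw [e] at hne
    simp at hne

theorem card_Z : Nat.card Z = 3 := by rw [Z, Nat.card_zpowers, order_x]

theorem card_Q : Nat.card C.Q = 3 ^ 7 := by rw [checked.card_Q]; rfl

theorem extraspecial : IsExtraspecial 3 ↥C.Q := by
  have := finiteK
  have : Fact (Nat.Prime 3) := ⟨by norm_num⟩
  have hp : IsPGroup 3 C.Q := IsPGroup.of_card card_Q
  have hcen : Subgroup.center C.Q = Z.subgroupOf C.Q := by
    ext q
    rw [Subgroup.mem_center_iff, Subgroup.mem_subgroupOf, ← central_iff q.2]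
    exact ⟨fun h p hp => congrArg Subtype.val (h ⟨p, hp⟩), fun h g => Subtype.ext (h g g.2).eq⟩
  have hcard : Nat.card (Subgroup.center C.Q) = 3 := by
    rw [hcen, Nat.card_congr (Subgroup.subgroupOfEquivOfLe Z_le_Q).toEquiv, card_Z]
  have hcomm : commutator C.Q = Subgroup.center C.Q := by
    have hle : commutator C.Q ≤ Subgroup.center C.Q := by
      rw [hcen, commutator_def, Subgroup.commutator_le]
      exact fun a _ b _ => commutator_mem a.2 b.2
    refine Subgroup.eq_of_le_of_card_ge hle ?_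
    have hd : Nat.card (commutator C.Q) ∣ 3 := hcard ▸ Subgroup.card_dvd_of_le hle
    rcases (Nat.dvd_prime (by norm_num)).mp hd with e | e
    · exfalso
      have hbot : commutator C.Q = ⊥ := Subgroup.eq_bot_of_card_eq _ e
      have : (⊤ : Subgroup C.Q) ≤ Subgroup.center C.Q := fun q _ => by
        rw [Subgroup.mem_center_iff]
        intro p
        have : ⁅p, q⁆ ∈ commutator C.Q := Subgroup.commutator_mem_commutator (Subgroup.mem_top _) (Subgroup.mem_top _)
        rw [hbot, Subgroup.mem_bot, commutatorElement_eq_one_iff_mul_comm] at this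
        exact this
      have := Subgroup.card_dvd_of_le this
      rw [Subgroup.card_top, card_Q, hcard] at this
      exact absurd (Nat.le_of_dvd (by norm_num) this) (by norm_num)
    · rw [e, hcard]
  refine ⟨⟨hp, le_antisymm ?_ (hcomm ▸ CfsgLib.commutator_le_frattini_pGroup hp), hcomm⟩, hcard⟩
  refine CfsgLib.RankFrattini.frattini_le_of_elementary hp _ (fun a b => ?_) fun a => ?_
  · exact hcomm ▸ Subgroup.commutator_mem_commutator (Subgroup.mem_top _) (Subgroup.mem_top _)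
  · rw [hcen, Subgroup.mem_subgroupOf]
    exact cube_mem a.2

theorem mem_Z_conj {n z : K} (hn : n ∈ C.N) (hz : z ∈ Z) : n * z * n⁻¹ ∈ Z := by
  rw [← normalizer_eq] at hn
  exact (Subgroup.mem_normalizer_iff.mp hn z).mp hz

theorem centralizer_le {n : K} (hn : n ∈ C.N) (h : ∀ q ∈ C.Q, Commute q n) : n ∈ C.Q := by
  obtain ⟨i, hi, t, ht, rfl⟩ := checked.mem_N hn
  have hq := checked.qel_mem t ht
  rcases Nat.eq_zero_or_pos i with rfl | hi0
  · rw [show C.cos 0 = 1 by rw [NData.cos, show C.cosets.getD 0 [] = [] by decide +kernel]; rfl, one_mul]; exact hq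
  exfalso
  have h' := allN_spec outer_ok i hi
  simp only [okOuter, Bool.or_eq_true, List.any_eq_true, force_eq] at h'
  obtain ⟨a, ha, hne⟩ := h'.resolve_left fun e => absurd (Nat.eq_of_beq_eq_true e) hi0.ne'
  set u := C.cos i
  set q := C.qel t
  have hPa : Pel 9 a ∈ C.Q := Subgroup.subset_closure ⟨a, ha, rfl⟩
  have hu : u ∈ C.N := checked.cos_mem hi
  have hc : ⁅q, Pel 9 a⁆ ∈ Z := commutator_mem hq hPa
  have hz : ⁅Pel 9 a, u⁆ ∈ Z := by
    have e : u * (q * Pel 9 a * q⁻¹) * u⁻¹ = Pel 9 a := by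
      have := (h _ hPa).eq
      calc u * (q * Pel 9 a * q⁻¹) * u⁻¹ = (u * q) * Pel 9 a * (u * q)⁻¹ := by group
        _ = Pel 9 a := by rw [← this, mul_inv_cancel_right]
    rw [show ⁅Pel 9 a, u⁆ = u * ⁅q, Pel 9 a⁆ * u⁻¹ by
      rw [commutatorElement_def, commutatorElement_def]
      nth_rewrite 1 [← e]
      group]
    exact mem_Z_conj hu hc
  have := finiteK
  obtain ⟨k, hk⟩ := Submonoid.mem_powers_iff _ _ |>.mp (mem_powers_iff_mem_zpowers.mpr (inv_mem hz))
  have hx3 : C.x ^ 3 = 1 := by rw [← order_x]; exact pow_orderOf_eq_one _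
  rw [← Nat.mod_add_div k 3, pow_add, pow_mul, hx3, one_pow, mul_one, ← Pel_small _ (Nat.mod_lt k (by norm_num)),
    commutatorElement_inv] at hk
  have e : u * Pel 9 a = Pel 9 a * Pel 9 (k % 3) * u := by
    have hzq : Pel 9 (k % 3) ∈ Z := by
      rw [Pel_small _ (Nat.mod_lt k (by norm_num))]; exact pow_mem (Subgroup.mem_zpowers _) _
    rw [← (comm_Z hzq hPa).symm.eq, hk, commutatorElement_def]
    group
  obtain ⟨p, hp, hne⟩ := List.any_eq_true.mp (allN_spec hne (k % 3) (Nat.mod_lt k (by norm_num)))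
  have hp' := base6_lt p hp
  have e' := congrArg (fun g => act g p) e
  simp only [act_mul] at e'
  have h1 : C.cev i p < 3510 := C.act_cos checked.gens checked.cosets i hp' ▸ act_lt _ hp'
  have h2 : pev 9 (k % 3) (C.cev i p) < 3510 := act_Pel 9 le_rfl _ h1 ▸ act_lt _ h1
  have h3 : pev 9 a p < 3510 := act_Pel 9 le_rfl a hp' ▸ act_lt _ hp'
  rw [act_Pel 9 le_rfl a hp', C.act_cos checked.gens checked.cosets i h3, C.act_cos checked.gens checked.cosets i hp',
    act_Pel 9 le_rfl _ h1, act_Pel 9 le_rfl a h2] at e'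
  rw [e'] at hne
  simp at hne

theorem X_mem_Q {m : ℕ} (hm : m < 9) (h4 : m ≠ 4) (h8 : m ≠ 8) : X m ∈ C.Q := by
  have hX : ∀ m < 9, Pel 9 (3 ^ m) = X m := by
    intro m hm
    show X 8 ^ digit (3 ^ m) 8 * (X 7 ^ digit (3 ^ m) 7 * (X 6 ^ digit (3 ^ m) 6 * (X 5 ^ digit (3 ^ m) 5 *
      (X 4 ^ digit (3 ^ m) 4 * (X 3 ^ digit (3 ^ m) 3 * (X 2 ^ digit (3 ^ m) 2 * (X 1 ^ digit (3 ^ m) 1 *
        (X 0 ^ digit (3 ^ m) 0 * 1)))))))) = _
    have hd : ∀ m < 9, ∀ j < 9, digit (3 ^ m) j = if j = m then 1 else 0 := by decide +kernel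
    rw [hd m hm 0, hd m hm 1, hd m hm 2, hd m hm 3, hd m hm 4, hd m hm 5, hd m hm 6, hd m hm 7, hd m hm 8] <;>
      interval_cases m <;> simp
  rw [← hX m hm]
  refine Subgroup.subset_closure ⟨_, ?_, rfl⟩
  exact (by decide +kernel : ∀ m < 9, m ≠ 4 → m ≠ 8 → 3 ^ m ∈ C.qGen) m hm h4 h8

theorem S3_le_N : (S3 : Subgroup K) ≤ C.N := by
  refine le_trans (?_ : _ ≤ Subgroup.centralizer ({C.x} : Set K)) fun g hg =>
    checked.mem_N_of_commute (Subgroup.mem_centralizer_singleton_iff.mp hg)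
  show H 9 ≤ _
  refine (Subgroup.closure_le _).mpr ?_
  rintro _ ⟨j, hj, rfl⟩
  refine Subgroup.mem_centralizer_singleton_iff.mpr (ext6 fun p hp => ?_)
  have hp' := base6_lt p hp
  have h := allN_spec s3_ok j hj
  simp only [List.all_eq_true, force_eq] at h
  rw [act_mul, act_mul, C.act_x hp', act_X hj hp', act_X hj (C.act_x hp' ▸ act_lt _ hp'),
    C.act_x (act_X hj hp' ▸ act_lt _ hp')]
  exact Nat.eq_of_beq_eq_true (h p hp)

/-- A normal 3-subgroup lies in the normal extraspecial subgroup. -/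
theorem three_normal_le (R : Subgroup C.N) [R.Normal] (hR : IsPGroup 3 R) : R ≤ C.Q.subgroupOf C.N := by
  have := finiteK
  have : Fact (Nat.Prime 3) := ⟨by norm_num⟩
  have hS : R ≤ (S3 : Subgroup K).subgroupOf C.N := by
    exact ((CfsgLib.le_pCore hR).trans (CfsgLib.pCore_le_sylow (S3.subtype S3_le_N))).trans
      (le_of_eq (Sylow.coe_subtype S3 S3_le_N))
  intro r hr
  rw [Subgroup.mem_subgroupOf]
  obtain ⟨n, hn, e⟩ := mem_S3.mp (Subgroup.mem_subgroupOf.mp (hS hr))
  set a := digit n 4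
  set c := digit n 8
  have ha : a < 3 := Nat.mod_lt _ (by norm_num)
  have hc : c < 3 := Nat.mod_lt _ (by norm_num)
  set o : K := X 8 ^ c * X 4 ^ a
  have hX4 : X 4 ∈ C.N := S3_le_N (Subgroup.subset_closure ⟨4, by norm_num, rfl⟩)
  have ho : o⁻¹ * Pel 9 n ∈ C.Q := by
    have hs : ∀ q ∈ C.Q, (X 4 ^ a)⁻¹ * q * X 4 ^ a ∈ C.Q := fun q hq => by
      have := (Subgroup.mem_normalizer_iff.mp (checked.N_normalizes_Q (inv_mem (pow_mem hX4 a))) q).mp hq
      rwa [inv_inv] at this
    have hq1 : X 7 ^ digit n 7 * (X 6 ^ digit n 6 * X 5 ^ digit n 5) ∈ C.Q :=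
      mul_mem (pow_mem (X_mem_Q (by norm_num) (by norm_num) (by norm_num)) _)
        (mul_mem (pow_mem (X_mem_Q (by norm_num) (by norm_num) (by norm_num)) _)
          (pow_mem (X_mem_Q (by norm_num) (by norm_num) (by norm_num)) _))
    have hq2 : X 3 ^ digit n 3 * (X 2 ^ digit n 2 * (X 1 ^ digit n 1 * X 0 ^ digit n 0)) ∈ C.Q :=
      mul_mem (pow_mem (X_mem_Q (by norm_num) (by norm_num) (by norm_num)) _)
        (mul_mem (pow_mem (X_mem_Q (by norm_num) (by norm_num) (by norm_num)) _)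
          (mul_mem (pow_mem (X_mem_Q (by norm_num) (by norm_num) (by norm_num)) _)
            (pow_mem (X_mem_Q (by norm_num) (by norm_num) (by norm_num)) _)))
    have := mul_mem (hs _ hq1) hq2
    convert this using 1
    show o⁻¹ * (X 8 ^ digit n 8 * (X 7 ^ digit n 7 * (X 6 ^ digit n 6 * (X 5 ^ digit n 5 * (X 4 ^ digit n 4 *
      (X 3 ^ digit n 3 * (X 2 ^ digit n 2 * (X 1 ^ digit n 1 * (X 0 ^ digit n 0 * 1))))))))) = _
    simp only [o, a, c]
    group
  rw [← e]
  by_cases h0 : a = 0 ∧ c = 0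
  · simpa [o, h0.1, h0.2] using ho
  exfalso
  have hPo : Pel 9 (c * 6561 + a * 81) = o := by
    show X 8 ^ digit _ 8 * (X 7 ^ digit _ 7 * (X 6 ^ digit _ 6 * (X 5 ^ digit _ 5 * (X 4 ^ digit _ 4 *
      (X 3 ^ digit _ 3 * (X 2 ^ digit _ 2 * (X 1 ^ digit _ 1 * (X 0 ^ digit _ 0 * 1)))))))) = _
    have hd : ∀ a < 3, ∀ c < 3, ∀ j < 9, digit (c * 6561 + a * 81) j = if j = 8 then c else if j = 4 then a else 0 := by
      decide +kernel
    rw [hd a ha c hc 0, hd a ha c hc 1, hd a ha c hc 2, hd a ha c hc 3, hd a ha c hc 4, hd a ha c hc 5, hd a ha c hc 6,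
      hd a ha c hc 7, hd a ha c hc 8] <;> simp [o]
  obtain ⟨q, hq, hq0⟩ : ∃ q ∈ outside, q.1 = c * 6561 + a * 81 :=
    (by decide +kernel : ∀ a < 3, ∀ c < 3, ¬(a = 0 ∧ c = 0) → ∃ q ∈ outside, q.1 = c * 6561 + a * 81) a ha c hc h0
  have h := (List.all_eq_true.mp outside_ok) q hq
  simp only [okOutside, Bool.and_eq_true, blt_iff] at h
  obtain ⟨⟨⟨⟨hi, hb⟩, hL⟩, hg⟩, hgcd⟩ := h
  rw [hq0] at hL hg
  set u := C.cos q.2.1
  have hu : u ∈ C.N := checked.cos_mem hi
  -- transport from the representative to the given element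
  have hQR : ∀ s : K, s ∈ C.Q → ∃ hs : s ∈ C.N, IsPGroup 3 (Subgroup.zpowers (⟨s, hs⟩ : C.N)) := fun s hs =>
    ⟨NData.Q_le_N hs, ((IsPGroup.of_card card_Q).of_equiv (Subgroup.subgroupOfEquivOfLe (NData.Q_le_N (C := C))).symm).to_le
      (Subgroup.zpowers_le.mpr (Subgroup.mem_subgroupOf.mpr hs))⟩
  haveI := checked.normal
  set RQ : Subgroup C.N := R ⊔ C.Q.subgroupOf C.N
  have hRQ : IsPGroup 3 RQ := hR.to_sup_of_normal_right
    ((IsPGroup.of_card card_Q).of_equiv (Subgroup.subgroupOfEquivOfLe (NData.Q_le_N (C := C))).symm)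
  have hoN : o ∈ C.N := by
    rw [← hPo]; exact S3_le_N (Pel_mem 9 _)
  have hmem : (⟨o, hoN⟩ : C.N) ∈ RQ := by
    have : (⟨o, hoN⟩ : C.N) = r * ⟨(o⁻¹ * Pel 9 n)⁻¹, NData.Q_le_N (inv_mem ho)⟩ := Subtype.ext (by
      show o = (r : K) * (o⁻¹ * Pel 9 n)⁻¹
      rw [← e]; group)
    rw [this]
    exact mul_mem (Subgroup.mem_sup_left hr) (Subgroup.mem_sup_right (Subgroup.mem_subgroupOf.mpr (inv_mem ho)))
  haveI : RQ.Normal := Subgroup.sup_normal _ _
  have hh : (⟨u, hu⟩ : C.N) * ⟨o, hoN⟩ * (⟨u, hu⟩ : C.N)⁻¹ * ⟨o, hoN⟩ ∈ RQ :=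
    mul_mem (Subgroup.Normal.conj_mem inferInstance _ hmem _) hmem
  obtain ⟨j, hj⟩ := hRQ ⟨_, hh⟩
  set g : K := u * o * u⁻¹ * o
  have hg3 : g ^ 3 ^ j = 1 := congrArg (fun z : RQ => ((z : C.N) : K)) hj
  have hevd : ∀ d < 3510, act g d = hev (c * 6561 + a * 81) q.2.1 d := by
    intro d hd
    have hw : ∀ x ∈ (C.cosets.getD q.2.1 []).flatMap (fun s => C.gensW.getD s []), x < 9 := by
      intro x hx
      obtain ⟨s, hs, hxs⟩ := List.mem_flatMap.mp hx
      have hc' := checked.cosets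
      simp only [NData.okCosets, List.all_eq_true, blt_iff] at hc'
      rw [List.getD_eq_getElem _ _ hi] at hs
      have := allN_spec checked.gens s (hc' _ (List.getElem_mem hi) s hs)
      simp only [Bool.and_eq_true, List.all_eq_true, blt_iff, force_eq] at this
      exact this.1 x hxs
    have hu' : u = el ((C.cosets.getD q.2.1 []).flatMap fun s => C.gensW.getD s []) := by
      show NData.cos C q.2.1 = _
      unfold NData.cos
      generalize C.cosets.getD q.2.1 [] = w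
      induction w with
      | nil => rfl
      | cons s w ih => rw [List.map_cons, List.prod_cons, ih, List.flatMap_cons, el_append]; rfl
    have h1 : pev 9 (c * 6561 + a * 81) d < 3510 := act_Pel 9 le_rfl _ hd ▸ act_lt _ hd
    have hinv : ∀ x < 3510, act (el ((C.cosets.getD q.2.1 []).flatMap fun s => C.gensW.getD s []))⁻¹ x =
        runT Fi3510.table 9 ((C.cosets.getD q.2.1 []).flatMap fun s => C.gensW.getD s []) x := fun x hx => by
      rw [act_of_lt _ hx]
      exact Fi3510.cert.hom_inv_word Fi3510.hlt hid _ hw ⟨x, hx⟩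
    have h2 : runT Fi3510.table 9 ((C.cosets.getD q.2.1 []).flatMap fun s => C.gensW.getD s [])
        (pev 9 (c * 6561 + a * 81) d) < 3510 := hinv _ h1 ▸ act_lt _ h1
    show act (u * o * u⁻¹ * o) d = _
    rw [← hPo, act_mul, act_Pel 9 le_rfl _ hd, act_mul, hu', hinv _ h1, ← hu', act_mul, act_Pel 9 le_rfl _ h2,
      C.act_cos checked.gens checked.cosets _ (act_Pel 9 le_rfl _ h2 ▸ act_lt _ h2)]
    simp only [hev, force_eq]
  have hpow : ∀ L : ℕ, act (g ^ L) q.2.2.1 = Nat.rec q.2.2.1 (fun _ a' => force a' (hev (c * 6561 + a * 81) q.2.1)) L := by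
    intro L
    induction L with
    | zero => rw [pow_zero, act_one]; rfl
    | succ L ih =>
      show _ = force (Nat.rec q.2.2.1 (fun _ a' => force a' (hev (c * 6561 + a * 81) q.2.1)) L) _
      rw [force_eq, ← ih, pow_succ', act_mul, hevd _ (act_lt _ hb)]
  have hfixL : act (g ^ q.2.2.2.1) q.2.2.1 = q.2.2.1 := (hpow _).trans (Nat.eq_of_beq_eq_true hL)
  let i : MulAction K ℕ := { smul := act, one_smul := act_one, mul_smul := act_mul }
  have hperiod : MulAction.period g q.2.2.1 ∣ Nat.gcd (3 ^ j) q.2.2.2.1 :=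
    Nat.dvd_gcd (MulAction.pow_smul_eq_iff_period_dvd.mp (show g ^ 3 ^ j • q.2.2.1 = q.2.2.1 by rw [hg3, one_smul]))
      (MulAction.pow_smul_eq_iff_period_dvd.mp hfixL)
  have hgcd9 : Nat.gcd (3 ^ j) q.2.2.2.1 ∣ q.2.2.2.2 := by
    rw [← Nat.eq_of_beq_eq_true hgcd]
    refine Nat.dvd_gcd ?_ (Nat.gcd_dvd_right _ _)
    obtain ⟨v, -, hv⟩ := (Nat.dvd_prime_pow (by norm_num : Nat.Prime 3)).mp (Nat.gcd_dvd_left (3 ^ j) q.2.2.2.1)
    rw [hv]
    refine Nat.pow_dvd_pow 3 ?_
    have h3 : 3 ^ v ∣ q.2.2.2.1 := hv ▸ Nat.gcd_dvd_right _ _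
    have hle : q.2.2.2.1 ≤ 12 := (by decide +kernel : ∀ q ∈ outside, q.2.2.2.1 ≤ 12) q hq
    have hpos : 0 < q.2.2.2.1 := (by decide +kernel : ∀ q ∈ outside, 0 < q.2.2.2.1) q hq
    have := Nat.le_of_dvd hpos h3
    by_contra hlt
    have : (3 : ℕ) ^ 10 ≤ 3 ^ v := Nat.pow_le_pow_right (by norm_num) (by omega)
    omega
  have := MulAction.pow_smul_eq_iff_period_dvd.mpr (hperiod.trans hgcd9)
  have e2 : act (g ^ q.2.2.2.2) q.2.2.1 = q.2.2.1 := this
  rw [hpow] at e2
  rw [e2] at hg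
  simp at hg

theorem pCore_eq : pCore 3 ↥C.N = C.Q.subgroupOf C.N := by
  have := finiteK
  haveI := checked.normal
  refine le_antisymm (sSup_le fun R ⟨hn, hp⟩ => ?_) (le_sSup ⟨checked.normal, ?_⟩)
  · haveI := hn
    exact three_normal_le R hp
  · exact (IsPGroup.of_card card_Q).of_equiv (Subgroup.subgroupOfEquivOfLe (NData.Q_le_N (C := C))).symm

/-- The generalised Fitting subgroup of the normalizer. -/
theorem gfit_eq : generalizedFittingSubgroup ↥C.N = C.Q.subgroupOf C.N := by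
  have := finiteK
  have : Fact (Nat.Prime 3) := ⟨by norm_num⟩
  rw [← pCore_eq]
  refine (CfsgLib.Comp.gfit_eq_pCore_iff 3).mpr ?_
  rw [pCore_eq]
  intro n hn
  refine Subgroup.mem_subgroupOf.mpr (centralizer_le n.2 fun q hq => ?_)
  exact congrArg Subtype.val (Subgroup.mem_centralizer_iff.mp hn ⟨q, NData.Q_le_N hq⟩ (Subgroup.mem_subgroupOf.mpr hq))

end CfsgLib.CosetEnum.Fi22Three.One
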