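/-
The centre of the Sylow subgroup.
-/
import Cfsg.Agent.Lib.CosetEnum.Fi22Three.OneGroup

set_option autoImplicit false
set_option maxRecDepth 1000000

namespace CfsgLib.CosetEnum.Fi22Three.One

open CfsgLib.CosetEnum CfsgLib.CosetEnum.Fi22Three

/-- A product other than three fails to commute with a member. -/
noncomputable def okCentre (i : ℕ) : Bool :=
  Nat.blt i 3 || (List.range 9).any fun m => base6.any fun p =>
    !Nat.beq (force (tperm m p) (pev 9 i)) (force (pev 9 i p) (tperm m))

theorem centre0_ok : allN 10000 okCentre = true := by decide +kernel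
theorem centre1_ok : allN 9683 (fun i => force (Nat.add 10000 i) okCentre) = true := by decide +kernel

/-- The centre of the Sylow subgroup. -/
theorem centre_le {z : K} (hz : z ∈ (S3 : Subgroup K)) (hc : ∀ s ∈ (S3 : Subgroup K), Commute s z) : z ∈ Z := by
  obtain ⟨i, hi, rfl⟩ := mem_S3.mp hz
  have h : okCentre i = true := by
    rcases Nat.lt_or_ge i 10000 with h | h
    · exact allN_spec centre0_ok i h
    · have := allN_spec centre1_ok (i - 10000) (by omega)
      rwa [force_eq, show Nat.add 10000 (i - 10000) = i by show 10000 + (i - 10000) = i; omega] at this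
  simp only [okCentre, Bool.or_eq_true, blt_iff, List.any_eq_true, List.mem_range, force_eq] at h
  rcases h with h | ⟨m, hm, p, hp, hne⟩
  · rw [Pel_small i h]
    exact pow_mem (Subgroup.mem_zpowers _) i
  · have hp' := base6_lt p hp
    have e := congrArg (fun g => act g p) (hc _ (Subgroup.subset_closure ⟨m, hm, rfl⟩)).eq
    simp only [act_mul] at e
    rw [act_Pel 9 le_rfl i hp', act_X hm hp', act_X hm (act_Pel 9 le_rfl i hp' ▸ act_lt _ hp'),
      act_Pel 9 le_rfl i (act_X hm hp' ▸ act_lt _ hp')] at e
    rw [e] at hne
    simp at hne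

end CfsgLib.CosetEnum.Fi22Three.One
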