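/-
The index of the normal extraspecial subgroup in the normalizer of the central element of order three: 2304.
-/
import Cfsg.Agent.Lib.CosetEnum.Fi22Three.OneGroup
import Cfsg.Agent.Lib.CosetEnum.Fi22Three.OneIndexData

set_option autoImplicit false
set_option maxRecDepth 1000000

namespace CfsgLib.CosetEnum.Fi22Three.One

open CfsgLib.CosetEnum CfsgLib.CosetEnum.Fi22Three
open scoped commutatorElement

/-- The generators outside the centre. -/
def outerGen : List ℕ := [3, 9, 27, 243, 729, 2187]

/-- The index of a conjugate. -/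
noncomputable def wt (i j : ℕ) : ℕ := fld (entry conjT (nat_lit 8) (nat_lit 72) i) (Nat.mul (nat_lit 12) j) (nat_lit 12)

/-- The check of the conjugates of one representative. -/
noncomputable def okConjT (i : ℕ) : Bool :=
  allN (nat_lit 6) fun j => force (wt i j) fun t => force (outerGen.getD j (nat_lit 0)) fun a =>
    Nat.blt t (nat_lit 2187) && base6.all fun b =>
      Nat.beq (force (pev (nat_lit 9) a b) (C.cev i)) (force (C.cev i b) (C.qev t))

/-- The action of a representative modulo the centre, packed. -/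
noncomputable def actKey (i : ℕ) : ℕ :=
  List.rec (motive := fun _ => ℕ) (nat_lit 0)
    (fun j _ v => Nat.add (Nat.mul v (nat_lit 6561)) (Nat.div (C.qi (wt i j)) (nat_lit 3)))
    [nat_lit 5, nat_lit 4, nat_lit 3, nat_lit 2, nat_lit 1, nat_lit 0]

/-- The place of a representative. -/
noncomputable def posI (i : ℕ) : ℕ := entry posT (nat_lit 32) (nat_lit 12) i

/-- The representative at a place. -/
noncomputable def ordI (k : ℕ) : ℕ := entry ordT (nat_lit 32) (nat_lit 12) k

/-- The actions are distinct. -/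
noncomputable def okDistinct : Bool :=
  allN (nat_lit 2303) (fun k => Nat.blt (actKey (ordI k)) (actKey (ordI (Nat.succ k)))) &&
    allN (nat_lit 2304) fun i => Nat.blt (posI i) (nat_lit 2304) && Nat.beq (ordI (posI i)) i

theorem conjT0_ok : allN 288 (fun i => force (Nat.add 0 i) okConjT) = true := by decide +kernel
theorem conjT1_ok : allN 288 (fun i => force (Nat.add 288 i) okConjT) = true := by decide +kernel
theorem conjT2_ok : allN 288 (fun i => force (Nat.add 576 i) okConjT) = true := by decide +kernel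
theorem conjT3_ok : allN 288 (fun i => force (Nat.add 864 i) okConjT) = true := by decide +kernel
theorem conjT4_ok : allN 288 (fun i => force (Nat.add 1152 i) okConjT) = true := by decide +kernel
theorem conjT5_ok : allN 288 (fun i => force (Nat.add 1440 i) okConjT) = true := by decide +kernel
theorem conjT6_ok : allN 288 (fun i => force (Nat.add 1728 i) okConjT) = true := by decide +kernel
theorem conjT7_ok : allN 288 (fun i => force (Nat.add 2016 i) okConjT) = true := by decide +kernel

theorem conjT_ok (i : ℕ) (hi : i < 2304) : okConjT i = true := by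
  have key : ∀ lo, allN 288 (fun i => force (Nat.add lo i) okConjT) = true → lo ≤ i → i < lo + 288 →
      okConjT i = true := by
    intro lo h h1 h2
    have := allN_spec h (i - lo) (by omega)
    rwa [force_eq, show Nat.add lo (i - lo) = i by show lo + (i - lo) = i; omega] at this
  rcases (show i < 288 ∨ (288 ≤ i ∧ i < 576) ∨ (576 ≤ i ∧ i < 864) ∨ (864 ≤ i ∧ i < 1152) ∨
      (1152 ≤ i ∧ i < 1440) ∨ (1440 ≤ i ∧ i < 1728) ∨ (1728 ≤ i ∧ i < 2016) ∨ (2016 ≤ i ∧ i < 2304) by omega) with
    h | h | h | h | h | h | h | h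
  · exact key 0 conjT0_ok (Nat.zero_le i) (by omega)
  · exact key 288 conjT1_ok h.1 h.2
  · exact key 576 conjT2_ok h.1 h.2
  · exact key 864 conjT3_ok h.1 h.2
  · exact key 1152 conjT4_ok h.1 h.2
  · exact key 1440 conjT5_ok h.1 h.2
  · exact key 1728 conjT6_ok h.1 h.2
  · exact key 2016 conjT7_ok h.1 h.2
theorem distinct_ok : okDistinct = true := by decide +kernel

theorem actKey_injective {i j : ℕ} (hi : i < 2304) (hj : j < 2304) (h : actKey i = actKey j) : i = j := by
  have hh := distinct_ok
  simp only [okDistinct, Bool.and_eq_true] at hh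
  have mono : ∀ {a b : ℕ}, a < b → b < 2304 → actKey (ordI a) < actKey (ordI b) := by
    intro a b hab
    induction b with
    | zero => omega
    | succ b ih =>
      intro hb
      have hs := blt_iff.mp (allN_spec hh.1 b (by omega))
      rcases Nat.lt_succ_iff_lt_or_eq.mp hab with q | q
      · exact (ih q (by omega)).trans hs
      · exact q ▸ hs
  have hp : ∀ i < 2304, posI i < 2304 ∧ ordI (posI i) = i := fun i hi => by
    have := allN_spec hh.2 i hi
    simp only [Bool.and_eq_true, blt_iff] at this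
    exact ⟨this.1, Nat.eq_of_beq_eq_true this.2⟩
  obtain ⟨hi1, hi2⟩ := hp i hi
  obtain ⟨hj1, hj2⟩ := hp j hj
  rcases lt_trichotomy (posI i) (posI j) with q | q | q
  · have := mono q hj1
    rw [hi2, hj2, h] at this
    exact absurd this (lt_irrefl _)
  · rw [← hi2, q, hj2]
  · have := mono q hi1
    rw [hi2, hj2, h] at this
    exact absurd this (lt_irrefl _)

theorem Pel_split : ∀ m, 1 ≤ m → ∀ n, Pel m n = Pel m (3 * (n / 3)) * X 0 ^ (n % 3) := by
  intro m hm
  induction m with
  | zero => omega
  | succ m ih =>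
    intro n
    show X m ^ digit n m * Pel m n = X m ^ digit (3 * (n / 3)) m * Pel m (3 * (n / 3)) * X 0 ^ (n % 3)
    rcases Nat.eq_zero_or_pos m with rfl | hm'
    · have e1 : digit n 0 = n % 3 := by show n / 3 ^ 0 % 3 = _; simp
      have e2 : digit (3 * (n / 3)) 0 = 0 := by show 3 * (n / 3) / 3 ^ 0 % 3 = _; simp
      rw [e1, e2, pow_zero, show Pel 0 n = 1 from rfl, show Pel 0 (3 * (n / 3)) = 1 from rfl]
      group
    · have e : digit (3 * (n / 3)) m = digit n m := by
        show 3 * (n / 3) / 3 ^ m % 3 = n / 3 ^ m % 3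
        obtain ⟨k, rfl⟩ := Nat.exists_eq_succ_of_ne_zero hm'.ne'
        rw [pow_succ', ← Nat.div_div_eq_div_mul, ← Nat.div_div_eq_div_mul, Nat.mul_div_cancel_left _ (by norm_num : 0 < 3)]
      rw [e, ih hm' n, mul_assoc]

theorem key_of_coset {i j : ℕ} (hi : i < 2304) (hj : j < 2304) {q : K} (hq : q ∈ C.Q) (h : C.cos j = C.cos i * q) :
    actKey j = actKey i := by
  have := finiteK
  have hk : ∀ m < 6, C.qi (wt j m) / 3 = C.qi (wt i m) / 3 := by
    intro m hm
    set a := outerGen.getD m 0
    have ha : a ∈ C.qGen := by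
      show outerGen.getD m 0 ∈ qGen
      exact (by decide +kernel : ∀ m < 6, outerGen.getD m 0 ∈ qGen) m hm
    have hPa : Pel 9 a ∈ C.Q := Subgroup.subset_closure ⟨a, ha, rfl⟩
    have hw : ∀ i < 2304, wt i m < 2187 ∧ C.cos i * Pel 9 a = C.qel (wt i m) * C.cos i := by
      intro i hi
      have h' := allN_spec (conjT_ok i hi) m hm
      simp only [force_eq, Bool.and_eq_true, blt_iff, List.all_eq_true] at h'
      refine ⟨h'.1, ext6 fun b hb => ?_⟩
      have hb' := base6_lt b hb
      rw [act_mul, act_mul, act_Pel 9 le_rfl a hb', C.act_cos checked.gens checked.cosets i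
        (act_Pel 9 le_rfl a hb' ▸ act_lt _ hb'), C.act_cos checked.gens checked.cosets i hb',
        C.act_qel _ (C.act_cos checked.gens checked.cosets i hb' ▸ act_lt _ hb')]
      exact Nat.eq_of_beq_eq_true (h'.2 b hb)
    obtain ⟨hti, ei⟩ := hw i hi
    obtain ⟨htj, ej⟩ := hw j hj
    set ti := wt i m
    set tj := wt j m
    have hu : C.cos i ∈ C.N := checked.cos_mem (by exact hi)
    set z := C.cos i * ⁅q, Pel 9 a⁆ * (C.cos i)⁻¹
    have hz : z ∈ Z := mem_Z_conj hu (commutator_mem hq hPa)
    have e : C.qel tj = z * C.qel ti := by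
      calc C.qel tj = C.cos j * Pel 9 a * (C.cos j)⁻¹ := by rw [ej, mul_inv_cancel_right]
        _ = z * (C.cos i * Pel 9 a * (C.cos i)⁻¹) := by
          rw [h]
          simp only [z, commutatorElement_def]
          group
        _ = z * C.qel ti := by rw [ei, mul_inv_cancel_right]
    obtain ⟨k, hk⟩ := Submonoid.mem_powers_iff _ _ |>.mp (mem_powers_iff_mem_zpowers.mpr hz)
    have hx : C.x = X 0 := by
      show Pel 9 1 = _
      rw [Pel_split 9 (by norm_num) 1, show 3 * (1 / 3) = 0 from rfl, Pel_zero, one_mul, show 1 % 3 = 1 from rfl, pow_one]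
    have hx3 : X 0 ^ 3 = 1 := by rw [← hx, ← order_x]; exact pow_orderOf_eq_one _
    set n := C.qi ti
    set n' := 3 * (n / 3) + (n % 3 + k) % 3
    have e' : C.qel tj = Pel 9 n' := by
      rw [e, (comm_Z hz (checked.qel_mem ti hti)).symm.eq, ← hk, hx]
      show Pel 9 n * X 0 ^ k = _
      rw [Pel_split 9 (by norm_num) n, Pel_split 9 (by norm_num) n', show n' / 3 = n / 3 by omega,
        show n' % 3 = (n % 3 + k) % 3 by omega, mul_assoc, ← pow_add]
      congr 1
      exact (pow_eq_pow_mod _ hx3)
    have hn : n < 19683 := checked.qi_lt (by exact hti)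
    have hn' : n' < 19683 := by omega
    have := Pel_injective (show C.qi tj ∈ Set.Iio 19683 from checked.qi_lt (by exact htj)) hn' e'
    rw [this]
    omega
  show Nat.add (Nat.mul (Nat.add (Nat.mul (Nat.add (Nat.mul (Nat.add (Nat.mul (Nat.add (Nat.mul (Nat.add (Nat.mul 0 6561)
      (C.qi (wt j 0) / 3)) 6561) (C.qi (wt j 1) / 3)) 6561) (C.qi (wt j 2) / 3)) 6561) (C.qi (wt j 3) / 3)) 6561)
      (C.qi (wt j 4) / 3)) 6561) (C.qi (wt j 5) / 3) = _
  rw [hk 0 (by norm_num), hk 1 (by norm_num), hk 2 (by norm_num), hk 3 (by norm_num), hk 4 (by norm_num), hk 5 (by norm_num)]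
  rfl

/-- The order of the normalizer. -/
theorem card_N : Nat.card C.N = 2304 * 2187 := by
  have := finiteK
  have hlen : C.cosets.length = 2304 := by
    show cosets.length = 2304
    decide +kernel
  let f : Fin 2304 × Fin 2187 → C.N := fun p => ⟨C.cos p.1 * C.qel p.2,
    mul_mem (checked.cos_mem (hlen.symm ▸ p.1.2)) (NData.Q_le_N (checked.qel_mem _ p.2.2))⟩
  have hs : Function.Surjective f := fun g => by
    obtain ⟨i, hi, t, ht, e⟩ := checked.mem_N g.2
    exact ⟨(⟨i, hlen ▸ hi⟩, ⟨t, ht⟩), Subtype.ext e⟩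
  have hinj : Function.Injective f := fun p r h => by
    have e : C.cos p.1 * C.qel p.2 = C.cos r.1 * C.qel r.2 := congrArg Subtype.val h
    have hij : (r.1 : ℕ) = p.1 := by
      refine actKey_injective r.1.2 p.1.2 (key_of_coset p.1.2 r.1.2
        (mul_mem (checked.qel_mem _ p.2.2) (inv_mem (checked.qel_mem _ r.2.2))) ?_)
      rw [← mul_assoc, e, mul_inv_cancel_right]
    rw [hij] at e
    have e2 := checked.qel_injective (show (p.2 : ℕ) ∈ Set.Iio C.qN from p.2.2) (show (r.2 : ℕ) ∈ Set.Iio C.qN from r.2.2)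
      (mul_left_cancel e)
    exact Prod.ext (Fin.ext hij.symm) (Fin.ext e2)
  rw [← Nat.card_eq_of_bijective f ⟨hinj, hs⟩, Nat.card_prod, Nat.card_fin, Nat.card_fin]

end CfsgLib.CosetEnum.Fi22Three.One
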