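/-
The checks of the data of the normalizer of the subgroup of order three of the product with index 261.
-/
import Cfsg.Agent.Lib.CosetEnum.Fi22Three.Model
import Cfsg.Agent.Lib.CosetEnum.Fi22Three.ZeroData

set_option autoImplicit false
set_option maxRecDepth 1000000

namespace CfsgLib.CosetEnum.Fi22Three.Zero

open CfsgLib.CosetEnum CfsgLib.CosetEnum.Fi22Three

/-- The data. -/
noncomputable def C : NData where
  root := root
  fixM := fixM
  gensW := gensW
  gensT := gensT
  gensP := gensP
  cosets := cosets
  qIdx := qIdx
  qN := qN
  qGen := qGen
  qMul := qMul
  qConj := qConj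
  ctab := ctab
  levels := levels
  nodes := nodes

theorem gens_ok : C.okGens = true := by decide +kernel
theorem cosets_ok : C.okCosets = true := by decide +kernel
theorem fixed_ok : okFixM C.root C.fixM = true := by decide +kernel
theorem q_ok : C.okQ = true := by decide +kernel
theorem norm_ok : C.okNorm = true := by decide +kernel
theorem ct0_ok : allN 48 (C.okCt 0) = true := by decide +kernel
theorem ct1_ok : allN 48 (C.okCt 1) = true := by decide +kernel
theorem ct2_ok : allN 48 (C.okCt 2) = true := by decide +kernel
theorem levels_ok : C.okLevels C.levels [] = true := by decide +kernel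

theorem order_ok : C.okOrder = true := by decide +kernel

end CfsgLib.CosetEnum.Fi22Three.Zero
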