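/-
The normalizer of a subgroup of order three of width zero: 3^6 by GL2(3).
-/
import Cfsg.Agent.Lib.CosetEnum.Fi22Three.Zero
import Cfsg.Agent.Lib.CosetEnum.Fi22Three.Repr
import Cfsg.Agent.Lib.CosetEnum.Fi22Three.SigData
import Cfsg.Agent.Lib.Basic

set_option autoImplicit false
set_option maxRecDepth 1000000

namespace CfsgLib.CosetEnum.Fi22Three.Zero

open Cfsg CfsgLib.CosetEnum CfsgLib.CosetEnum.Fi22Three

/-- The stored image of a member under a coset. -/
noncomputable def img (i k : ℕ) : ℕ := (sigZero.getD i []).getD k 0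

/-- The images are as stored. -/
noncomputable def okImg (i : ℕ) : Bool :=
  allN 2 fun k => force (img i k) fun m => Nat.blt m 9 && base6.all fun p =>
    Nat.beq (force (tperm k p) (C.cev i)) (force (C.cev i p) (pev 9 m))

/-- The small module commutes with itself and with the normal subgroup and has exponent three. -/
noncomputable def okModule : Bool :=
  base6.all fun p => Nat.beq (tperm 0 (tperm 1 p)) (tperm 1 (tperm 0 p)) &&
    Nat.beq (tperm 0 (tperm 0 (tperm 0 p))) p && Nat.beq (tperm 1 (tperm 1 (tperm 1 p))) p &&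
    C.qGen.all fun a => allN 2 fun k => Nat.beq (force (tperm k p) (pev 9 a)) (force (pev 9 a p) (tperm k))

theorem img_ok : allN 48 okImg = true := by decide +kernel
theorem module_ok : okModule = true := by decide +kernel
theorem img_inj : ∀ i < 48, ∀ j < 48, img i 0 = img j 0 → img i 1 = img j 1 → i = j := by decide +kernel
theorem img_first : img 0 0 = 1 ∧ img 0 1 = 3 := by decide +kernel
theorem cosets_len : C.cosets.length = 48 := by decide +kernel

theorem cos_zero : C.cos 0 = 1 := by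
  rw [NData.cos, show C.cosets.getD 0 [] = [] by decide +kernel]; rfl

theorem Pel_pair (m : ℕ) (hm : m < 9) : Pel 9 m = X 1 ^ digit m 1 * X 0 ^ digit m 0 := by
  show X 8 ^ digit m 8 * (X 7 ^ digit m 7 * (X 6 ^ digit m 6 * (X 5 ^ digit m 5 * (X 4 ^ digit m 4 *
    (X 3 ^ digit m 3 * (X 2 ^ digit m 2 * (X 1 ^ digit m 1 * (X 0 ^ digit m 0 * 1)))))))) = _
  have hd : ∀ m < 9, ∀ j < 9, 2 ≤ j → digit m j = 0 := by decide +kernel
  rw [hd m hm 2 (by norm_num) le_rfl, hd m hm 3 (by norm_num) (by norm_num), hd m hm 4 (by norm_num) (by norm_num),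
    hd m hm 5 (by norm_num) (by norm_num), hd m hm 6 (by norm_num) (by norm_num), hd m hm 7 (by norm_num) (by norm_num),
    hd m hm 8 (by norm_num) (by norm_num)]
  simp

theorem module_spec : Commute (X 0) (X 1) ∧ X 0 ^ 3 = 1 ∧ X 1 ^ 3 = 1 ∧
    ∀ q ∈ C.Q, ∀ k < 2, Commute q (X k) := by
  have h := module_ok
  simp only [okModule, List.all_eq_true, Bool.and_eq_true] at h
  have hX : ∀ {j : ℕ}, j < 9 → ∀ {p : ℕ}, p < 3510 → tperm j p < 3510 := fun hj p hp => act_X hj hp ▸ act_lt _ hp
  have cube : ∀ {j : ℕ} (hj : j < 9), (∀ p ∈ base6, Nat.beq (tperm j (tperm j (tperm j p))) p = true) → X j ^ 3 = 1 :=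
    fun {j} hj hq => ext6 fun p hp => by
      have hp' := base6_lt p hp
      rw [show X j ^ 3 = X j * X j * X j by simp [pow_succ], act_mul, act_mul, act_X hj hp', act_X hj (hX hj hp'),
        act_X hj (hX hj (hX hj hp')), act_one]
      exact Nat.eq_of_beq_eq_true (hq p hp)
  refine ⟨ext6 fun p hp => ?_, cube (by norm_num) fun p hp => (h p hp).1.1.2, cube (by norm_num) fun p hp => (h p hp).1.2,
    fun q hq k hk => ?_⟩
  · have hp' := base6_lt p hp
    rw [act_mul, act_mul, act_X (by norm_num) hp', act_X (j := 0) (by norm_num) hp',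
      act_X (j := 0) (by norm_num) (hX (by norm_num) hp'), act_X (j := 1) (by norm_num) (hX (by norm_num) hp')]
    exact Nat.eq_of_beq_eq_true (h p hp).1.1.1
  · induction hq using Subgroup.closure_induction with
    | mem g hg =>
      obtain ⟨a, ha, rfl⟩ := hg
      refine ext6 fun p hp => ?_
      have hp' := base6_lt p hp
      have hk9 : k < 9 := by omega
      have := allN_spec ((h p hp).2 a ha) k hk
      simp only [force_eq] at this
      rw [act_mul, act_mul, act_X hk9 hp', act_Pel 9 le_rfl a (hX hk9 hp'), act_Pel 9 le_rfl a hp',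
        act_X hk9 (act_Pel 9 le_rfl a hp' ▸ act_lt _ hp')]
      exact Nat.eq_of_beq_eq_true this
    | one => exact Commute.one_left _
    | mul a b _ _ iha ihb => exact iha.mul_left ihb
    | inv a _ iha => exact iha.inv_left

theorem conj_coset (i : ℕ) (hi : i < 48) (k : ℕ) (hk : k < 2) :
    C.cos i * X k * (C.cos i)⁻¹ = Pel 9 (img i k) ∧ img i k < 9 := by
  have h := allN_spec (allN_spec img_ok i hi) k hk
  simp only [force_eq, Bool.and_eq_true, blt_iff, List.all_eq_true] at h
  refine ⟨?_, h.1⟩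
  rw [mul_inv_eq_iff_eq_mul]
  refine ext6 fun p hp => ?_
  have hp' := base6_lt p hp
  have hk9 : k < 9 := by omega
  rw [act_mul, act_mul, act_X hk9 hp', C.act_cos checked.gens checked.cosets i (act_X hk9 hp' ▸ act_lt _ hp'),
    C.act_cos checked.gens checked.cosets i hp',
    act_Pel 9 le_rfl _ (C.act_cos checked.gens checked.cosets i hp' ▸ act_lt _ hp')]
  exact Nat.eq_of_beq_eq_true (h.2 p hp)

theorem X_mem (k : ℕ) (hk : k < 2) : X k ∈ H 2 := Subgroup.subset_closure ⟨k, hk, rfl⟩

theorem conj_mem {n : K} (hn : n ∈ C.N) {a : K} (ha : a ∈ H 2) : n * a * n⁻¹ ∈ H 2 := by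
  obtain ⟨i, hi, t, ht, rfl⟩ := checked.mem_N hn
  rw [cosets_len] at hi
  have hq := checked.qel_mem t ht
  have hle : H 2 ≤ (H 2).comap (MulAut.conj (C.cos i * C.qel t)).toMonoidHom := by
    refine (Subgroup.closure_le _).mpr ?_
    rintro _ ⟨k, hk, rfl⟩
    show C.cos i * C.qel t * X k * (C.cos i * C.qel t)⁻¹ ∈ H 2
    have hk' : k < 2 := hk
    rw [show C.cos i * C.qel t * X k * (C.cos i * C.qel t)⁻¹ = C.cos i * (C.qel t * X k * (C.qel t)⁻¹) * (C.cos i)⁻¹ by
      group, (module_spec.2.2.2 _ hq k hk').eq, mul_inv_cancel_right, (conj_coset i hi k hk').1,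
      Pel_pair _ (conj_coset i hi k hk').2]
    exact mul_mem (pow_mem (X_mem 1 (by norm_num)) _) (pow_mem (X_mem 0 (by norm_num)) _)
  exact hle ha

/-- The element of coordinates. -/
noncomputable def vec (v : Fin 2 → ZMod 3) : H 2 :=
  ⟨X 1 ^ (v 1).val * X 0 ^ (v 0).val, mul_mem (pow_mem (X_mem 1 (by norm_num)) _) (pow_mem (X_mem 0 (by norm_num)) _)⟩

theorem pow_val_add {g : K} (hg : g ^ 3 = 1) (a b : ZMod 3) : g ^ (a + b).val = g ^ a.val * g ^ b.val := by
  rw [← pow_add, ZMod.val_add]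
  conv_rhs => rw [← Nat.mod_add_div (a.val + b.val) 3, pow_add, pow_mul, hg, one_pow, mul_one]

theorem vec_add (u v : Fin 2 → ZMod 3) : vec (u + v) = vec u * vec v := by
  obtain ⟨hc, h0, h1, -⟩ := module_spec
  refine Subtype.ext ?_
  show X 1 ^ (u 1 + v 1).val * X 0 ^ (u 0 + v 0).val = (X 1 ^ (u 1).val * X 0 ^ (u 0).val) * (X 1 ^ (v 1).val * X 0 ^ (v 0).val)
  rw [pow_val_add h1, pow_val_add h0, (hc.pow_pow (u 0).val (v 1).val).mul_mul_mul_comm]

theorem vec_bijective : Function.Bijective vec := by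
  have := finiteK
  have hs : Function.Surjective vec := by
    intro a
    obtain ⟨i, hi, e⟩ := (H_spec 2 (by norm_num)).1 a a.2
    refine ⟨fun j => ((digit i j.val : ℕ) : ZMod 3), Subtype.ext ?_⟩
    rw [← e]
    show X 1 ^ ((digit i 1 : ℕ) : ZMod 3).val * X 0 ^ ((digit i 0 : ℕ) : ZMod 3).val = X 1 ^ digit i 1 * (X 0 ^ digit i 0 * 1)
    rw [mul_one, ZMod.val_natCast, ZMod.val_natCast, Nat.mod_eq_of_lt (show digit i 1 < 3 from Nat.mod_lt _ (by norm_num)),
      Nat.mod_eq_of_lt (show digit i 0 < 3 from Nat.mod_lt _ (by norm_num))]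
  exact hs.bijective_of_nat_card_le (by rw [(H_spec 2 (by norm_num)).2]; simp)

/-- The coordinates. -/
noncomputable def coord : Coord C.N (H 2) (Fin 2) where
  c := (Equiv.ofBijective vec vec_bijective).symm
  c_mul := fun a b => by
    apply (Equiv.ofBijective vec vec_bijective).injective
    rw [Equiv.apply_symm_apply]
    show a * b = vec _
    rw [vec_add]
    exact (congrArg₂ (· * ·) (Equiv.apply_symm_apply (Equiv.ofBijective vec vec_bijective) a)
      (Equiv.apply_symm_apply (Equiv.ofBijective vec vec_bijective) b)).symm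
  sec := vec
  c_sec := fun v => Equiv.symm_apply_apply (Equiv.ofBijective vec vec_bijective) v
  norm := fun n hn a ha => conj_mem hn ha
  ker := fun n hn a ha => by
    have e0 : a = 1 := by
      have h := congrArg vec ha
      have e : vec ((Equiv.ofBijective vec vec_bijective).symm a) = a :=
        Equiv.apply_symm_apply (Equiv.ofBijective vec vec_bijective) a
      rw [e] at h
      rw [h]
      exact Subtype.ext (by simp [vec])
    subst e0
    simp only [OneMemClass.coe_one, mul_one, mul_inv_cancel]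
    rw [← ha]
    rfl

/-- The members of the basis. -/
noncomputable def bas (k : ℕ) (hk : k < 2) : H 2 := ⟨X k, Subgroup.subset_closure ⟨k, hk, rfl⟩⟩

theorem cj_bas {i t : ℕ} (hi : i < 48) (ht : t < C.qN) (hn : C.cos i * C.qel t ∈ C.N) {k : ℕ} (hk : k < 2) :
    ((coord.cj ⟨_, hn⟩ (bas k hk) : H 2) : K) = Pel 9 (img i k) := by
  rw [← (conj_coset i hi k hk).1]
  show C.cos i * C.qel t * X k * (C.cos i * C.qel t)⁻¹ = _
  rw [show C.cos i * C.qel t * X k * (C.cos i * C.qel t)⁻¹ = C.cos i * (C.qel t * X k * (C.qel t)⁻¹) * (C.cos i)⁻¹ by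
      group, (module_spec.2.2.2 _ (checked.qel_mem t ht) k hk).eq, mul_inv_cancel_right]

theorem rep_inj {i j s t : ℕ} (hi : i < 48) (hj : j < 48) (hs : s < C.qN) (ht : t < C.qN) (hn : C.cos i * C.qel s ∈ C.N)
    (hm : C.cos j * C.qel t ∈ C.N) (h : coord.rep ⟨_, hn⟩ = coord.rep ⟨_, hm⟩) : i = j := by
  have key : ∀ k (hk : k < 2), img i k = img j k := fun k hk => by
    have e := coord.rep_mulVec ⟨_, hn⟩ (bas k hk)
    rw [h, coord.rep_mulVec ⟨_, hm⟩ (bas k hk)] at e
    have e' := congrArg Subtype.val ((Equiv.ofBijective vec vec_bijective).symm.injective e)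
    rw [cj_bas hi hs hn hk, cj_bas hj ht hm hk] at e'
    exact (Pel_injective (show img j k < 19683 by have := (conj_coset j hj k hk).2; omega)
      (show img i k < 19683 by have := (conj_coset i hi k hk).2; omega) e').symm
  exact img_inj i hi j hj (key 0 (by norm_num)) (key 1 (by norm_num))

theorem ker_eq : coord.rep.ker = C.Q.subgroupOf C.N := by
  ext ⟨n, hn⟩
  rw [MonoidHom.mem_ker, Subgroup.mem_subgroupOf]
  constructor
  · intro h
    obtain ⟨i, hi, t, ht, rfl⟩ := checked.mem_N hn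
    rw [cosets_len] at hi
    have h1 : C.cos 0 * C.qel 0 = 1 := by rw [cos_zero, checked.qel_zero, one_mul]
    have hone : C.cos 0 * C.qel 0 ∈ C.N := h1 ▸ one_mem _
    have h0 : i = 0 := rep_inj hi (by norm_num) ht checked.qN_pos hn hone (by
      rw [h, show (⟨_, hone⟩ : C.N) = 1 from Subtype.ext h1, map_one])
    subst h0
    show C.cos 0 * C.qel t ∈ C.Q
    rw [cos_zero, one_mul]
    exact checked.qel_mem t ht
  · intro h
    refine (coord.rep_eq_one_iff _).mpr fun a => ?_
    have : coord.cj ⟨n, hn⟩ a = a := Subtype.ext (by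
      show n * (a : K) * n⁻¹ = a
      have hc : Commute n (a : K) := by
        suffices H 2 ≤ Subgroup.centralizer ({n} : Set K) from (Subgroup.mem_centralizer_singleton_iff.mp (this a.2)).symm
        refine (Subgroup.closure_le _).mpr ?_
        rintro _ ⟨k, hk, rfl⟩
        exact Subgroup.mem_centralizer_singleton_iff.mpr (module_spec.2.2.2 n h k hk).eq.symm
      rw [hc.eq, mul_inv_cancel_right])
    rw [this]

theorem rep_surjective : Function.Surjective coord.rep := by
  classical
  have := finiteK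
  have := Fact.mk (show Nat.Prime 3 by norm_num)
  let f : Fin 48 → Matrix.GeneralLinearGroup (Fin 2) (ZMod 3) := fun i =>
    coord.rep ⟨C.cos i * C.qel 0, mul_mem (checked.cos_mem (lt_of_lt_of_eq i.2 cosets_len.symm))
      (NData.Q_le_N (checked.qel_mem 0 checked.qN_pos))⟩
  have hf : Function.Injective f := fun i j e => Fin.ext (rep_inj i.2 j.2 checked.qN_pos checked.qN_pos _ _ e)
  have hb := (Nat.bijective_iff_injective_and_card f).mpr ⟨hf, by
    rw [Nat.card_fin, Matrix.card_GL_field]; simp [Fin.prod_univ_two]⟩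
  intro y
  obtain ⟨i, rfl⟩ := hb.2 y
  exact ⟨_, rfl⟩

/-- No element of order three generates a normal subgroup. -/
theorem gl_no_normal_three : ∀ a b c d : ZMod 3, (!![a, b; c, d] : Matrix (Fin 2) (Fin 2) (ZMod 3)) ^ 3 = 1 →
    !![a, b; c, d] ≠ 1 → ((!![a, b; c, d] * (!![0, 1; 1, 0] * !![a, b; c, d] * !![0, 1; 1, 0])) ^ 3 ≠ 1 ∨
      (!![a, b; c, d] * (!![1, 1; 0, 1] * !![a, b; c, d] * !![1, 2; 0, 1])) ^ 3 ≠ 1) := by decide +kernel

theorem normal_three_bot (R : Subgroup (Matrix.GeneralLinearGroup (Fin 2) (ZMod 3))) [R.Normal] (hR : IsPGroup 3 R) :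
    R = ⊥ := by
  classical
  have := Fact.mk (show Nat.Prime 3 by norm_num)
  have hcube : ∀ y ∈ R, y ^ 3 = 1 := by
    intro y hy
    obtain ⟨v, hv⟩ := IsPGroup.iff_orderOf.mp hR ⟨y, hy⟩
    rw [Subgroup.orderOf_mk] at hv
    have hd : 3 ^ v ∣ 48 := by
      rw [← hv]
      refine (orderOf_dvd_natCard y).trans (dvd_of_eq ?_)
      rw [Matrix.card_GL_field]; simp [Fin.prod_univ_two]
    have hv1 : v ≤ 1 := by
      by_contra hlt
      have := (Nat.pow_dvd_pow 3 (show 2 ≤ v by omega)).trans hd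
      norm_num at this
    exact orderOf_dvd_iff_pow_eq_one.mp (hv ▸ (Nat.pow_dvd_pow 3 hv1).trans (by norm_num))
  rw [Subgroup.eq_bot_iff_forall]
  intro y hy
  by_contra hne
  have hyv : (y : Matrix (Fin 2) (Fin 2) (ZMod 3)) = !![y.1 0 0, y.1 0 1; y.1 1 0, y.1 1 1] := Matrix.eta_fin_two _
  have h1 := congrArg Units.val (hcube y hy)
  rw [Units.val_pow_eq_pow_val, Units.val_one, hyv] at h1
  let u : Matrix.GeneralLinearGroup (Fin 2) (ZMod 3) :=
    ⟨!![0, 1; 1, 0], !![0, 1; 1, 0], by decide +kernel +revert, by decide +kernel +revert⟩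
  let w : Matrix.GeneralLinearGroup (Fin 2) (ZMod 3) :=
    ⟨!![1, 1; 0, 1], !![1, 2; 0, 1], by decide +kernel +revert, by decide +kernel +revert⟩
  rcases gl_no_normal_three _ _ _ _ h1 (fun e => hne (Units.ext (hyv.trans e))) with h | h <;> rw [← hyv] at h <;> apply h
  · have := congrArg Units.val (hcube _ (mul_mem hy (Subgroup.Normal.conj_mem inferInstance y hy u)))
    simpa [u] using this
  · have := congrArg Units.val (hcube _ (mul_mem hy (Subgroup.Normal.conj_mem inferInstance y hy w)))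
    simpa [w] using this

theorem card_Q : Nat.card C.Q = 3 ^ 6 := by rw [checked.card_Q]; rfl

theorem pCore_eq : pCore 3 ↥C.N = C.Q.subgroupOf C.N := by
  have := finiteK
  have := Fact.mk (show Nat.Prime 3 by norm_num)
  haveI := checked.normal
  refine le_antisymm ?_ (CfsgLib.le_pCore
    ((IsPGroup.of_card card_Q).of_equiv (Subgroup.subgroupOfEquivOfLe (NData.Q_le_N (C := C))).symm))
  rw [← ker_eq]
  intro r hr
  haveI : ((pCore 3 ↥C.N).map coord.rep).Normal := Subgroup.Normal.map inferInstance _ rep_surjective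
  have h := normal_three_bot _ ((CfsgLib.isPGroup_pCore (G := C.N) 3).map coord.rep)
  exact Subgroup.mem_bot.mp (h ▸ Subgroup.mem_map_of_mem _ hr)

/-- The quotient is GL2(3). -/
theorem quotient_iso : Nonempty (↥C.N ⧸ pCore 3 ↥C.N ≃* Matrix.GeneralLinearGroup (Fin 2) (ZMod 3)) :=
  ⟨(QuotientGroup.quotientMulEquivOfEq (pCore_eq.trans ker_eq.symm)).trans
    (QuotientGroup.quotientKerEquivOfSurjective _ rep_surjective)⟩

end CfsgLib.CosetEnum.Fi22Three.Zero
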